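import Cfsg.Agent.Lib.SW.Red

/-!
# Homogeneous finite groups: definitions and basic lemmas
-/

set_option autoImplicit false

namespace CfsgLib.Hom

open Subgroup Cfsg CfsgLib.FT CfsgLib.FT.BGN

variable {G : Type*} [Group G]

/-- `G` is homogeneous. -/
def Hm (G : Type*) [Group G] : Prop :=
  ∀ (A B : Subgroup G) (e : A ≃* B), ∃ φ : G ≃* G, ∀ a : A, φ (a : G) = (e a : G)

/-- `V` is an elementary abelian `p`-group. -/
structure EA (p : ℕ) (V : Subgroup G) : Prop where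
  pow : ∀ v ∈ V, v ^ p = 1
  comm : ∀ a ∈ V, ∀ b ∈ V, a * b = b * a

/-- `f` restricts to an automorphism of `A`. -/
structure IsAut (A : Subgroup G) (f : G → G) : Prop where
  mem : ∀ a ∈ A, f a ∈ A
  mul : ∀ a ∈ A, ∀ b ∈ A, f (a * b) = f a * f b
  inj : ∀ a ∈ A, f a = 1 → a = 1

/-- The automizer of `A` is normal in `Aut A`. -/
def NA (A : Subgroup G) : Prop :=
  ∀ f, IsAut A f → ∀ g ∈ 𝐍(A), ∃ g' ∈ 𝐍(A), ∀ a ∈ A, g' * f a * g'⁻¹ = f (g * a * g⁻¹)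

/-- The automizer of `V` is a `p'`-group. -/
def PV (p : ℕ) (V : Subgroup G) : Prop := ∀ g ∈ 𝐍(V), ∀ k : ℕ, g ^ p ^ k = 1 → g ∈ 𝐂(V)

/-- Case I at the prime `p`. -/
def C1 (p : ℕ) (G : Type*) [Group G] : Prop := ∀ V : Subgroup G, EA p V → PV p V

/-- Every element of order `p` centralizing `E` lies in `E`. -/
def Mx (p : ℕ) (E : Subgroup G) : Prop := ∀ x ∈ 𝐂(E), x ^ p = 1 → x ∈ E

/-- `l` is a linear functional on `V`. -/
def Fn (p : ℕ) (V : Subgroup G) (l : G → ZMod p) : Prop :=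
  ∀ a ∈ V, ∀ b ∈ V, l (a * b) = l a + l b

/-- What homogeneity gives for the odd primes. -/
structure OW (G : Type*) [Group G] : Prop where
  c1 : ∀ p : ℕ, p.Prime → p ≠ 2 → C1 p G
  na : ∀ p : ℕ, p.Prime → p ≠ 2 → ∀ V : Subgroup G, EA p V → NA V
  cj : ∀ a b : G, Odd (orderOf a) → orderOf a = orderOf b → ∃ φ : G ≃* G, φ a = b

theorem EA.mono {p : ℕ} {V W : Subgroup G} (h : EA p V) (hW : W ≤ V) : EA p W :=
  ⟨fun v hv => h.pow v (hW hv), fun a ha b hb => h.comm a (hW ha) b (hW hb)⟩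

theorem EA.le_cent {p : ℕ} {V : Subgroup G} (h : EA p V) : V ≤ 𝐂(V) :=
  fun a ha => U4.mem_cent.2 fun b hb => h.comm b hb a ha

theorem EA.isPGroup {p : ℕ} {V : Subgroup G} (h : EA p V) : IsPGroup p V :=
  fun v => ⟨1, Subtype.ext (by simpa using h.pow v v.2)⟩

theorem EA.zpowers {p : ℕ} {a : G} (h : a ^ p = 1) : EA p (zpowers a) :=
  ⟨by rintro _ ⟨i, rfl⟩; simp only; rw [← zpow_natCast, ← zpow_mul, mul_comm, zpow_mul,
    zpow_natCast, h, one_zpow], fun _ ha _ hb => SW.comm_A ha hb⟩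

theorem EA.sup {p : ℕ} {V W : Subgroup G} (hV : EA p V) (hW : EA p W) (h : W ≤ 𝐂(V)) :
    EA p (V ⊔ W) := by
  have hc : V ⊔ W ≤ 𝐂((V ⊔ W : Subgroup G)) := by
    have h1 : V ⊔ W ≤ 𝐂(V) := sup_le hV.le_cent h
    have h2 : V ⊔ W ≤ 𝐂(W) := sup_le (le_centralizer_iff.1 h) hW.le_cent
    exact le_centralizer_iff.1 (sup_le (le_centralizer_iff.1 h1) (le_centralizer_iff.1 h2))
  refine ⟨fun x hx => ?_, fun a ha b hb => U4.mem_cent.1 (hc hb) a ha⟩
  obtain ⟨b, hb, a, ha, rfl⟩ := (mem_sup_iff_of_le_normalizer (h.trans (U4.cent_le_norm V))).1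
    (sup_comm V W ▸ hx)
  rw [Commute.mul_pow (U4.mem_cent.1 (h hb) a ha).symm, hV.pow a ha, hW.pow b hb, one_mul]

theorem EA.map {H : Type*} [Group H] {p : ℕ} {V : Subgroup G} (h : EA p V) (f : G →* H) :
    EA p (V.map f) :=
  ⟨by rintro _ ⟨v, hv, rfl⟩; rw [← map_pow, h.pow v hv, map_one], by
    rintro _ ⟨a, ha, rfl⟩ _ ⟨b, hb, rfl⟩; rw [← map_mul, h.comm a ha b hb, map_mul]⟩

namespace Fn

variable {p : ℕ} {V : Subgroup G} {l : G → ZMod p} (h : Fn p V l)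
include h

theorem one : l 1 = 0 := by simpa using h 1 (one_mem _) 1 (one_mem _)

theorem inv {a : G} (ha : a ∈ V) : l a⁻¹ = -l a := by
  have := h a ha a⁻¹ (inv_mem ha)
  rw [mul_inv_cancel, h.one] at this
  exact (neg_eq_of_add_eq_zero_right this.symm).symm

theorem pow {a : G} (ha : a ∈ V) (n : ℕ) : l (a ^ n) = n * l a := by
  induction n with
  | zero => simp [h.one]
  | succ n ih => rw [pow_succ, h _ (pow_mem ha n) a ha, ih, Nat.cast_succ, add_one_mul]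

end Fn

theorem pow_val_add {p : ℕ} [NeZero p] {u : G} (hu : u ^ p = 1) (a b : ZMod p) :
    u ^ (a + b).val = u ^ a.val * u ^ b.val := by
  rw [ZMod.val_add, ← pow_eq_pow_mod _ hu, pow_add]

theorem pow_val_natCast {p : ℕ} {u : G} (hu : u ^ p = 1) (n : ℕ) :
    u ^ (n : ZMod p).val = u ^ n := by
  rw [ZMod.val_natCast, ← pow_eq_pow_mod _ hu]

namespace IsAut

variable {A : Subgroup G} {f : G → G} (h : IsAut A f)
include h

theorem one : f 1 = 1 := by simpa using h.mul 1 (one_mem _) 1 (one_mem _)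

theorem inv {a : G} (ha : a ∈ A) : f a⁻¹ = (f a)⁻¹ :=
  eq_inv_of_mul_eq_one_right (by rw [← h.mul a ha _ (inv_mem ha), mul_inv_cancel, h.one])

theorem exists_equiv [Finite G] : ∃ e : A ≃* A, ∀ a : A, (e a : G) = f a := by
  let F : A →* A := MonoidHom.mk' (fun a => ⟨f a, h.mem a a.2⟩) fun a b =>
    Subtype.ext (h.mul a a.2 b b.2)
  have hF : Function.Injective F := (injective_iff_map_eq_one F).2 fun a ha =>
    Subtype.ext (h.inj a a.2 (congrArg Subtype.val ha))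
  exact ⟨MulEquiv.ofBijective F ⟨hF, Finite.surjective_of_injective hF⟩, fun _ => rfl⟩

theorem surj [Finite G] {b : G} (hb : b ∈ A) : ∃ a ∈ A, f a = b := by
  obtain ⟨e, he⟩ := h.exists_equiv
  obtain ⟨a, ha⟩ := e.surjective ⟨b, hb⟩
  exact ⟨a, a.2, by rw [← he, ha]⟩

end IsAut

variable [Finite G]

theorem Hm.ext (h : Hm G) {A : Subgroup G} {f : G → G} (hf : IsAut A f) :
    ∃ φ : G ≃* G, ∀ a ∈ A, φ a = f a := by
  obtain ⟨e, he⟩ := hf.exists_equiv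
  obtain ⟨φ, hφ⟩ := h A A e
  exact ⟨φ, fun a ha => (hφ ⟨a, ha⟩).trans (he _)⟩

theorem Hm.na (h : Hm G) (A : Subgroup G) : NA A := fun f hf g hg => by
  obtain ⟨φ, hφ⟩ := h.ext hf
  have key : ∀ a ∈ A, φ g * f a * (φ g)⁻¹ = f (g * a * g⁻¹) := fun a ha => by
    rw [← hφ a ha, ← hφ _ (conj_mem_of_mem_normalizer hg ha), map_mul, map_mul, map_inv]
  refine ⟨φ g, mem_normalizer_of_conj_mem fun x hx => ?_, key⟩
  obtain ⟨a, ha, rfl⟩ := hf.surj hx
  exact key a ha ▸ hf.mem _ (conj_mem_of_mem_normalizer hg ha)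

theorem Hm.cj (h : Hm G) {a b : G} (e : orderOf a = orderOf b) : ∃ φ : G ≃* G, φ a = b := by
  have h1 : Nat.card (zpowers a) = Nat.card (zpowers b) := by simp [e]
  let ε := mulEquivOfOrderOfEq (G := zpowers a) (G' := zpowers b) (g := ⟨a, mem_zpowers a⟩)
    (g' := ⟨b, mem_zpowers b⟩) (by rintro ⟨_, i, rfl⟩; exact ⟨i, rfl⟩)
    (by rintro ⟨_, i, rfl⟩; exact ⟨i, rfl⟩) (by rw [← orderOf_coe, ← orderOf_coe, e])
  obtain ⟨φ, hφ⟩ := h _ _ ε
  exact ⟨φ, (hφ ⟨a, mem_zpowers a⟩).trans (by simp [ε])⟩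

omit [Finite G] in
theorem Hm.of_equiv {H : Type*} [Group H] (h : Hm G) (e : G ≃* H) : Hm H := fun A B ε => by
  obtain ⟨φ, hφ⟩ := h (A.map e.symm.toMonoidHom) (B.map e.symm.toMonoidHom)
    (((e.symm.subgroupMap A).symm.trans ε).trans (e.symm.subgroupMap B))
  refine ⟨(e.symm.trans φ).trans e, fun a => ?_⟩
  have := hφ (e.symm.subgroupMap A a)
  have h2 : φ (e.symm a) = e.symm (ε ((e.symm.subgroupMap A).symm (e.symm.subgroupMap A a))) := this
  rw [MulEquiv.symm_apply_apply] at h2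
  exact (congrArg e h2).trans (e.apply_symm_apply _)

omit [Finite G] in
theorem Hm.char (h : Hm G) (K : Subgroup G) [hK : K.Characteristic] : Hm K := fun A B ε => by
  obtain ⟨φ, hφ⟩ := h (A.map K.subtype) (B.map K.subtype)
    (((A.equivMapOfInjective _ K.subtype_injective).symm.trans ε).trans
      (B.equivMapOfInjective _ K.subtype_injective))
  refine ⟨(φ.subgroupMap K).trans (MulEquiv.subgroupCongr (characteristic_iff_map_eq.1 hK φ)),
    fun a => Subtype.ext ?_⟩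
  have := hφ (A.equivMapOfInjective _ K.subtype_injective a)
  simp only [MulEquiv.trans_apply, MulEquiv.symm_apply_apply] at this
  exact this

/-- the `p`-part of an element acting as a `p`-element -/
theorem exists_ppart {p : ℕ} (hp : p.Prime) {A : Subgroup G} {k : G} {n : ℕ}
    (hk : k ^ p ^ n ∈ 𝐂(A)) :
    ∃ u ∈ zpowers k, (∃ j, u ^ p ^ j = 1) ∧ ∀ a ∈ A, u * a * u⁻¹ = k * a * k⁻¹ := by
  obtain ⟨u, hu, v, hv, e, -, ⟨j, hj⟩, ho⟩ := exists_p_part hp k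
  have hvC : v ∈ 𝐂(A) := by
    obtain ⟨i, rfl⟩ := hv
    refine zpowers_le.2 ?_ (mem_zpowers_pow_iff.2 (ho.pow_right n).symm)
    simp only
    rw [← zpow_natCast, ← zpow_mul, mul_comm, zpow_mul, zpow_natCast]
    exact zpow_mem hk i
  refine ⟨u, hu, ⟨j, hj ▸ pow_orderOf_eq_one u⟩, fun a ha => ?_⟩
  rw [e, show u * v * a * (u * v)⁻¹ = u * (v * a * v⁻¹) * u⁻¹ by group,
    ← U4.mem_cent.1 hvC a ha, mul_inv_cancel_right]

/-- a `p`-element normalizing a Sylow `p`-subgroup lies in it -/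
theorem mem_of_ppow {p : ℕ} (hp : p.Prime) {K R : Subgroup G} (hR : IsSylowIn p R K) {g : G}
    (hg : g ∈ K) (hn : g ∈ 𝐍(R)) {j : ℕ} (ho : g ^ p ^ j = 1) : g ∈ R := by
  have := Fact.mk hp
  obtain ⟨i, -, hi⟩ := (Nat.dvd_prime_pow hp).1 (orderOf_dvd_of_pow_eq_one ho)
  exact SW.mem_of_norm_sylow hR hg hn hi

/-- The commutator of `g` with the central automorphism `a ↦ a f(a)`. -/
theorem NA.cen {A E : Subgroup G} (h : NA A) (hE : E ≤ A) (hEA : E ≤ 𝐂(A)) {f : G → G}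
    (hf : ∀ a ∈ A, f a ∈ E) (hm : ∀ a ∈ A, ∀ b ∈ A, f (a * b) = f a * f b)
    (h0 : ∀ e ∈ E, f e = 1) {g : G} (hg : g ∈ 𝐍(A)) (hgE : g ∈ 𝐍(E)) :
    ∃ k ∈ 𝐍(A), ∀ a ∈ A, k * a * k⁻¹ = a * (f a * (g * f (g⁻¹ * a * g) * g⁻¹)⁻¹) := by
  have hF : IsAut A fun a => a * f a := ⟨fun a ha => mul_mem ha (hE (hf a ha)),
    fun a ha b hb => by
      rw [hm a ha b hb, mul_assoc, ← mul_assoc b, U4.mem_cent.1 (hEA (hf a ha)) b hb]
      group,
    fun a ha e => by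
      have h1 : a = (f a)⁻¹ := eq_inv_of_mul_eq_one_left e
      have h2 := h0 a (h1 ▸ inv_mem (hf a ha))
      rwa [h2, mul_one] at e⟩
  obtain ⟨g', hg', e⟩ := h _ hF g hg
  refine ⟨g' * g⁻¹, mul_mem hg' (inv_mem hg), fun a ha => ?_⟩
  have hb : g⁻¹ * a * g ∈ A := by simpa using conj_mem_of_mem_normalizer (inv_mem hg) ha
  generalize hbb : g⁻¹ * a * g = b at hb
  obtain rfl : a = g * b * g⁻¹ := by rw [← hbb]; group
  have h1 := inv_mem (hf b hb)
  have h2 := e _ (mul_mem hb (hE h1))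
  have h3 := conj_mem_of_mem_normalizer hgE h1
  rw [hm b hb _ (hE h1), h0 _ h1, mul_one, inv_mul_cancel_right, ← _root_.conj_mul,
    hm _ ha _ (hE h3), h0 _ h3, mul_one] at h2
  rw [show g' * g⁻¹ * (g * b * g⁻¹) * (g' * g⁻¹)⁻¹ = g' * b * g'⁻¹ by group, h2, mul_assoc,
    ← U4.mem_cent.1 (hEA h3) _ (hE (hf _ ha))]
  group

end CfsgLib.Hom
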