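import Mathlib

/-!
# Normal subgroups of `GL(M)`: linear algebra
-/

set_option autoImplicit false

namespace CfsgLib.Hom

open Module

variable {K M : Type*} [Field K] [AddCommGroup M] [Module K M]

theorem exists_dual {W : Submodule K M} {a : M} (ha : a ∉ W) :
    ∃ f : Dual K M, f a = 1 ∧ ∀ w ∈ W, f w = 0 := by
  obtain ⟨f, h1, h2⟩ := LinearMap.exists_extend_of_notMem (0 : W →ₗ[K] K) ha 1
  exact ⟨f, h2, fun w hw => by simpa using LinearMap.congr_fun h1 ⟨w, hw⟩⟩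

theorem exists_dual1 {a : M} (ha : a ≠ 0) : ∃ f : Dual K M, f a = 1 :=
  (exists_dual (W := ⊥) (by simpa using ha)).imp fun _ h => h.1

theorem exists_dual2 {a v : M} (ha : ∀ c : K, a ≠ c • v) : ∃ f : Dual K M, f a = 1 ∧ f v = 0 := by
  obtain ⟨f, h1, h2⟩ := exists_dual (W := K ∙ v) (a := a) fun h => by
    obtain ⟨c, e⟩ := Submodule.mem_span_singleton.1 h
    exact ha c e.symm
  exact ⟨f, h1, h2 v (Submodule.mem_span_singleton_self v)⟩

theorem exists_pair {X Y : Type*} [AddCommGroup X] [Module K X] (B : X →ₗ[K] Y → K) {a b : Y}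
    (h1 : ∃ x, B x a = 1) (h2 : ∃ x, B x b ≠ 0) : ∃ x, B x a = 1 ∧ B x b ≠ 0 := by
  obtain ⟨x, hx⟩ := h1
  obtain ⟨y, hy⟩ := h2
  by_cases e : B x b = 0
  · by_cases e' : B y a = 0
    · exact ⟨x + y, by simp [hx, e'], by simp [e, hy]⟩
    · exact ⟨(B y a)⁻¹ • y, by simp [e'], by simp [e', hy]⟩
  · exact ⟨x, hx, e⟩

/-- `t` is the transvection `1 + l ⊗ u`. -/
def Tr (t : M ≃ₗ[K] M) (l : Dual K M) (u : M) : Prop := l u = 0 ∧ ∀ x, t x = x + l x • u

theorem exists_dil (l : Dual K M) (u : M) (h : 1 + l u ≠ 0) :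
    ∃ D : M ≃ₗ[K] M, ∀ x, D x = x + l x • u :=
  ⟨LinearEquiv.dilatransvection (f := l) (v := u) h.isUnit, fun _ => by
    simp [LinearEquiv.dilatransvection.apply]⟩

theorem exists_tr {l : Dual K M} {u : M} (h : l u = 0) : ∃ t, Tr t l u :=
  (exists_dil l u (by simp [h])).imp fun _ e => ⟨h, e⟩

theorem Tr.inv_apply {t : M ≃ₗ[K] M} {l : Dual K M} {u : M} (h : Tr t l u) (x : M) :
    t⁻¹ x = x - l x • u := by
  rw [← t.injective.eq_iff, h.2 (x - _)]
  simp [h.1]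

theorem Tr.conj {t : M ≃ₗ[K] M} {l : Dual K M} {u : M} (h : Tr t l u) (D : M ≃ₗ[K] M) :
    Tr (D * t * D⁻¹) (l ∘ₗ (D⁻¹ : M ≃ₗ[K] M)) (D u) :=
  ⟨by simpa using h.1, fun x => by simp [h.2]⟩

theorem Tr.comm {t : M ≃ₗ[K] M} {l : Dual K M} {v : M} (h : Tr t l v) (g : M ≃ₗ[K] M) (x : M) :
    (g * t * g⁻¹ * t⁻¹) x = x - l x • v + (l (g⁻¹ x) - l x * l (g⁻¹ v)) • g v := by
  rw [LinearEquiv.mul_apply, (h.conj g).2, h.inv_apply]
  simp

variable {N : Subgroup (M ≃ₗ[K] M)} [hN : N.Normal]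

theorem comm_mem {g : M ≃ₗ[K] M} (hg : g ∈ N) (t : M ≃ₗ[K] M) : g * t * g⁻¹ * t⁻¹ ∈ N := by
  have := mul_mem hg (hN.conj_mem _ (inv_mem hg) t)
  simpa [mul_assoc] using this

/-- all transvections are conjugate -/
theorem tr_mem {t₀ t : M ≃ₗ[K] M} {l₀ l : Dual K M} {u₀ u : M} (h₀ : Tr t₀ l₀ u₀) (hN₀ : t₀ ∈ N)
    (h1 : t₀ ≠ 1) (h : Tr t l u) : t ∈ N := by
  by_cases e : t = 1
  · exact e ▸ one_mem N
  have key : ∀ {t : M ≃ₗ[K] M} {l : Dual K M} {u : M}, Tr t l u → t ≠ 1 →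
      u ≠ 0 ∧ ∃ x, l x ≠ 0 := fun {t l u} h e => by
    by_contra! h2
    refine e (LinearEquiv.ext fun x => ?_)
    by_cases e' : u = 0
    · rw [h.2, e', smul_zero, add_zero]; rfl
    · rw [h.2, h2 e' x, zero_smul, add_zero]; rfl
  obtain ⟨hu, x, hx⟩ := key h e
  obtain ⟨hu₀, x₀, hx₀⟩ := key h₀ h1
  obtain ⟨m, m1, m2⟩ := exists_pair (K := K) (X := Dual K M) (Y := M)
    { toFun := fun f => f, map_add' := fun _ _ => rfl, map_smul' := fun _ _ => rfl }
    (exists_dual1 hu₀) ((exists_dual1 hu).imp fun f hf => by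
      change f u ≠ 0
      simp [hf])
  replace m1 : m u₀ = 1 := m1
  obtain ⟨D, hD⟩ := exists_dil m (u - u₀) (by simpa [m1] using m2)
  have h2 := h₀.conj D
  rw [show D u₀ = u by simp [hD, m1]] at h2
  set l₁ := l₀ ∘ₗ ((D⁻¹ : M ≃ₗ[K] M) : M →ₗ[K] M)
  obtain ⟨w, w1, w2⟩ := exists_pair (K := K) (X := M) (Y := Dual K M)
    { toFun := fun x f => f x, map_add' := fun _ _ => funext fun f => map_add f _ _,
      map_smul' := fun _ _ => funext fun f => map_smul f _ _ } (a := l) (b := l₁)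
    ⟨(l x)⁻¹ • x, by simp [hx]⟩ ⟨D x₀, by simpa [l₁] using hx₀⟩
  replace w1 : l w = 1 := w1
  obtain ⟨D', hD'⟩ := exists_dil (l₁ - l) w (by simpa [w1] using w2)
  have h3 := h2.conj D'
  rw [show D' u = u by simp [hD', h.1, h2.1]] at h3
  have h4 : t = D' * (D * t₀ * D⁻¹) * D'⁻¹ := LinearEquiv.ext fun y => by
    obtain ⟨y, rfl⟩ := D'.surjective y
    rw [h.2, h3.2]
    congr 2
    rw [show (l₁ ∘ₗ ((D'⁻¹ : M ≃ₗ[K] M) : M →ₗ[K] M)) (D' y) = l₁ y by simp, hD' y]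
    simp [w1]
  exact h4 ▸ hN.conj_mem _ (hN.conj_mem _ hN₀ D) D'

/-- `N` contains no nontrivial transvection. -/
def NoTr (N : Subgroup (M ≃ₗ[K] M)) : Prop := ∀ t ∈ N, ∀ l u, Tr t l u → t = 1

theorem NoTr.eig (h : NoTr N) {n : ℕ} (hn : (n : K) ≠ 0) (hK : ∀ c : K, c ≠ 0 → c ^ n = 1)
    {g : M ≃ₗ[K] M} (hg : g ∈ N) {v : M} (hv : v ≠ 0) {c : K} (e : g v = c • v) (x : M) :
    g x = c • x := by
  have c0 : c ≠ 0 := fun h => hv (g.injective (by simp [e, h]))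
  have e' : g⁻¹ v = c⁻¹ • v := g.injective (by simp [e, smul_smul, c0])
  have h1 : ∀ y, ∃ s : K, c⁻¹ • g y - y = s • v := fun y => by
    by_contra! h2
    obtain ⟨l, l1, l2⟩ := exists_dual2 h2
    obtain ⟨t, ht⟩ := exists_tr l2
    have h3 := h _ (comm_mem hg t) (c • l ∘ₗ ((g⁻¹ : M ≃ₗ[K] M) : M →ₗ[K] M) - l) v
      ⟨by simp [l2, e', -LinearEquiv.coe_inv], fun x => by
        rw [ht.comm, e, e']
        simp [l2, smul_smul, sub_smul, mul_comm]
        abel⟩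
    have h4 := ht.comm g (g y)
    rw [h3, e, e'] at h4
    simp only [map_smul, l2, smul_eq_mul, mul_zero, sub_zero, LinearEquiv.coe_one, id_eq,
      smul_smul, LinearEquiv.coe_inv, LinearEquiv.symm_apply_apply] at h4
    have h5 : (l y * c - l (g y)) • v = 0 := by
      rw [sub_smul]
      linear_combination (norm := module) h4.symm
    have h6 := (smul_eq_zero.1 h5).resolve_right hv
    simp only [map_sub, map_smul, smul_eq_mul] at l1
    field_simp at l1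
    exact c0 (by linear_combination -l1 - h6)
  obtain ⟨m, hm⟩ := exists_dual1 (K := K) hv
  set l : Dual K M := m ∘ₗ (c⁻¹ • (g : M →ₗ[K] M) - LinearMap.id)
  have h2 : ∀ y, g y = c • (y + l y • v) := fun y => by
    obtain ⟨s, hs⟩ := h1 y
    have : l y = s := by
      change m (c⁻¹ • g y - y) = s
      simp [hs, hm]
    rw [this, ← hs]
    simp [smul_smul, c0]
  have h3 : l v = 0 := by simp [l, e, hm, c0]
  have h4 : ∀ (k : ℕ) y, (g ^ k) y = c ^ k • (y + ((k : K) * l y) • v) := fun k => by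
    induction k with
    | zero => simp
    | succ k ih =>
      intro y
      rw [pow_succ, LinearEquiv.mul_apply, ih, h2]
      simp only [map_smul, map_add, h3, smul_eq_mul]
      module
  have h5 := h _ (pow_mem hg n) ((n : K) • l) v ⟨by simp [h3], fun y => by simp [h4, hK c c0]⟩
  have h6 := h4 n x
  rw [h5, hK c c0, one_smul] at h6
  have h7 : l x = 0 := by simpa [hn, hv] using h6
  rw [h2, h7, zero_smul, add_zero]

theorem NoTr.scalar (h : NoTr N) {n : ℕ} (hn : (n : K) ≠ 0) (hK : ∀ c : K, c ≠ 0 → c ^ n = 1)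
    (hb : (∃ b : K, b ≠ 0 ∧ 1 - b ^ 2 ≠ 0) ∨ ∀ f f' : Dual K M, ∃ x ≠ 0, f x = 0 ∧ f' x = 0)
    {g : M ≃ₗ[K] M} (hg : g ∈ N) : ∃ c : K, ∀ x, g x = c • x := by
  by_contra h0
  have h1 : ∀ v ≠ 0, ∀ c : K, g v ≠ c • v := fun v hv c e => h0 ⟨c, h.eig hn hK hg hv e⟩
  obtain ⟨v, hv⟩ : ∃ v : M, v ≠ 0 := by
    by_contra! e
    exact h0 ⟨1, fun x => by rw [e (g x), e x, smul_zero]⟩
  rcases hb with ⟨b, b0, b1⟩ | hb
  · obtain ⟨l, l1, l2⟩ := exists_dual2 (h1 v hv)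
    obtain ⟨D, hD⟩ := exists_dil ((b - 1) • l) (g v) (by simpa [l1] using b0)
    have d1 : D v = v := by simp [hD, l2]
    have d2 : D (g v) = b • g v := by
      rw [hD]; simp only [LinearMap.smul_apply, l1, smul_eq_mul]; module
    have h2 := h.eig hn hK (mul_mem (hN.conj_mem _ (inv_mem hg) D⁻¹) hg) hv (c := b) (by
      simp only [LinearEquiv.mul_apply, inv_inv, d2, map_smul]
      simp only [LinearEquiv.coe_inv, LinearEquiv.symm_apply_apply]
      rw [D.symm_apply_eq.2 d1.symm]) (g v)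
    simp only [LinearEquiv.mul_apply, inv_inv, LinearEquiv.coe_inv, LinearEquiv.symm_apply_eq,
      map_smul, d2] at h2
    rw [hD] at h2
    refine h1 (g v) (by simpa using hv) (-(1 - b ^ 2)⁻¹ * ((b - 1) * l (g (g v)))) ?_
    refine smul_right_injective M b1 ?_
    simp only [smul_smul, LinearMap.smul_apply, smul_eq_mul] at h2 ⊢
    rw [← mul_assoc, mul_neg, mul_inv_cancel₀ b1]
    linear_combination (norm := module) h2
  · obtain ⟨l, l1, l2⟩ := exists_dual2 (K := K) (a := g⁻¹ v) (v := v) fun c e => by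
      have e' : v = c • g v := by simpa using congrArg g e
      have c0 : c ≠ 0 := fun h => hv (by simpa [h] using e')
      exact h1 v hv c⁻¹ (by rw [eq_inv_smul_iff₀ c0, ← e'])
    obtain ⟨t, ht⟩ := exists_tr l2
    obtain ⟨x, x0, x1, x2⟩ := hb l (l ∘ₗ ((g⁻¹ : M ≃ₗ[K] M) : M →ₗ[K] M))
    replace x2 : l (g⁻¹ x) = 0 := x2
    have h2 := h.eig hn hK (comm_mem hg t) x0 (c := 1) (by rw [ht.comm, x1, x2]; simp) v
    rw [ht.comm, l1, l2] at h2
    exact hv (by simpa using h2)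

omit hN in
theorem neg_mem_of_two (h : ∀ t l u, Tr t l u → t ∈ N) (h2 : finrank K M = 2) :
    ∃ t ∈ N, ∀ x, t x = -x := by
  have : FiniteDimensional K M := .of_finrank_pos (by omega)
  let b := finBasisOfFinrankEq K M h2
  obtain ⟨s, hs⟩ := exists_tr (l := b.coord 1) (u := b 0) (by simp)
  obtain ⟨t, ht⟩ := exists_tr (l := -b.coord 0) (u := b 1) (by simp)
  have h0 : (s * t * s) (b 0) = -b 1 := by simp [hs.2, ht.2]
  have h1 : (s * t * s) (b 1) = b 0 := by simp [hs.2, ht.2]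
  have hw := mul_mem (mul_mem (h _ _ _ hs) (h _ _ _ ht)) (h _ _ _ hs)
  generalize s * t * s = w at h0 h1 hw
  refine ⟨w * w, mul_mem hw hw, fun x => ?_⟩
  have : ((w * w : M ≃ₗ[K] M) : M →ₗ[K] M) = -LinearMap.id := b.ext fun i => by
    fin_cases i <;> simp [h0, h1]
  exact LinearMap.congr_fun this x

end CfsgLib.Hom
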