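import Cfsg.Agent.Lib.Hom.Defs
import Cfsg.Agent.Lib.Hom.LinA
import Cfsg.Agent.Lib.BurnsideBasis

/-!
# Normal subgroups of `GL(V)`
-/

set_option autoImplicit false

namespace CfsgLib.Hom

open Subgroup Cfsg CfsgLib.FT CfsgLib.FT.BGN

universe u

variable {G : Type u} [Group G] {p : ℕ} {V W : Subgroup G}

/-- `e` identifies the vector space `M` with `V`. -/
structure Br (p : ℕ) (V : Subgroup G) {M : Type u} [AddCommGroup M] [Module (ZMod p) M]
    (e : M → G) : Prop where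
  inj : Function.Injective e
  mem : ∀ m, e m ∈ V
  surj : ∀ v ∈ V, ∃ m, e m = v
  add : ∀ a b, e (a + b) = e a * e b

theorem EA.br [Fact p.Prime] (hV : EA p V) : ∃ (M : Type u) (_ : AddCommGroup M)
    (_ : Module (ZMod p) M) (e : M → G), Br p V e := by
  letI : CommGroup V := { (inferInstance : Group V) with
    mul_comm := fun a b => Subtype.ext (hV.comm a a.2 b b.2) }
  obtain ⟨i⟩ := BurnsideBasis.nonempty_elemAbModule (Q := V) (p := p)
    fun x => Subtype.ext (by simpa using hV.pow x x.2)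
  exact ⟨Additive V, inferInstance, i, fun m => (m.toMul : V),
    fun _ _ h => Additive.toMul.injective (Subtype.ext h), fun m => m.toMul.2,
    fun v hv => ⟨Additive.ofMul ⟨v, hv⟩, rfl⟩, fun _ _ => rfl⟩

namespace Br

variable {M : Type u} [AddCommGroup M] [Module (ZMod p) M] {e : M → G} (h : Br p V e)
include h

theorem zero : e 0 = 1 := by simpa using h.add 0 0

theorem neg (a : M) : e (-a) = (e a)⁻¹ :=
  eq_inv_of_mul_eq_one_left (by rw [← h.add, neg_add_cancel, h.zero])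

theorem nsmul (n : ℕ) (a : M) : e (n • a) = e a ^ n := by
  induction n with
  | zero => simp [h.zero]
  | succ n ih => rw [succ_nsmul, h.add, ih, pow_succ]

theorem smul [NeZero p] (c : ZMod p) (a : M) : e (c • a) = e a ^ c.val := by
  rw [← h.nsmul, ← Nat.cast_smul_eq_nsmul (ZMod p), ZMod.natCast_zmod_val]

theorem eq_zero {a : M} : e a = 1 ↔ a = 0 := by rw [← h.zero, h.inj.eq_iff]

theorem card : Nat.card M = Nat.card V :=
  Nat.card_congr (Equiv.ofBijective (fun m => ⟨e m, h.mem m⟩) ⟨fun _ _ e' =>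
    h.inj (congrArg Subtype.val e'), fun v => (h.surj v v.2).imp fun _ e' => Subtype.ext e'⟩)

theorem finite [Finite G] : Finite M := Finite.of_injective e h.inj

theorem exists_dual {l : G → ZMod p} (hl : Fn p V l) :
    ∃ f : Module.Dual (ZMod p) M, ∀ m, f m = l (e m) :=
  ⟨(AddMonoidHom.mk' (fun m => l (e m)) fun a b => by
    rw [h.add, hl _ (h.mem a) _ (h.mem b)]).toZModLinearMap p, fun _ => rfl⟩

theorem exists_fun {X : Type*} [Inhabited X] (f : M → X) : ∃ l : G → X, ∀ m, l (e m) = f m :=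
  ⟨Function.extend e f default, h.inj.extend_apply f _⟩

/-- the automizer -/
def aut (_ : Br p V e) : Subgroup (M ≃ₗ[ZMod p] M) where
  carrier := {t | ∃ g ∈ 𝐍(V), ∀ m, g * e m * g⁻¹ = e (t m)}
  one_mem' := ⟨1, one_mem _, by simp⟩
  mul_mem' := by
    rintro s t ⟨g, hg, e1⟩ ⟨k, hk, e2⟩
    refine ⟨g * k, mul_mem hg hk, fun m => ?_⟩
    rw [LinearEquiv.mul_apply, ← e1, ← e2]
    group
  inv_mem' := by
    rintro s ⟨g, hg, e1⟩
    refine ⟨g⁻¹, inv_mem hg, fun m => ?_⟩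
    obtain ⟨m, rfl⟩ := s.surjective m
    rw [← e1]
    simp [mul_assoc]

theorem exists_aut [Finite G] {g : G} (hg : g ∈ 𝐍(V)) :
    ∃ t ∈ h.aut, ∀ m, g * e m * g⁻¹ = e (t m) := by
  have := h.finite
  choose f hf using fun m => h.surj _ (conj_mem_of_mem_normalizer hg (h.mem m))
  let F := (AddMonoidHom.mk' f fun a b => h.inj (by
    rw [h.add, hf, hf, hf, h.add, _root_.conj_mul])).toZModLinearMap p
  have hF : Function.Injective F := fun a b e' => h.inj (by
    have := congrArg e e'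
    change e (f a) = e (f b) at this
    simpa [hf] using this)
  exact ⟨LinearEquiv.ofBijective F ⟨hF, Finite.surjective_of_injective hF⟩,
    ⟨g, hg, fun m => (hf m).symm⟩, fun m => (hf m).symm⟩

theorem normal (hN : NA V) : h.aut.Normal := ⟨by
  rintro t ⟨g, hg, e1⟩ s
  letI : Inhabited G := ⟨1⟩
  obtain ⟨f, hf⟩ := h.exists_fun fun m => e (s m)
  obtain ⟨g', hg', e2⟩ := hN f ⟨fun a ha => by
      obtain ⟨m, rfl⟩ := h.surj a ha
      exact hf m ▸ h.mem _, fun a ha b hb => by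
      obtain ⟨m, rfl⟩ := h.surj a ha
      obtain ⟨n, rfl⟩ := h.surj b hb
      rw [← h.add, hf, hf, hf, map_add, h.add], fun a ha e' => by
      obtain ⟨m, rfl⟩ := h.surj a ha
      rw [hf, h.eq_zero] at e'
      exact h.eq_zero.2 (by simpa using e')⟩ g hg
  refine ⟨g', hg', fun m => ?_⟩
  obtain ⟨m, rfl⟩ := s.surjective m
  rw [← hf, e2 _ (h.mem m), e1, hf]
  simp⟩

theorem conj_pow {g : G} {t : M ≃ₗ[ZMod p] M} (e1 : ∀ m, g * e m * g⁻¹ = e (t m)) (n : ℕ) (m : M) :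
    g ^ n * e m * (g ^ n)⁻¹ = e ((t ^ n) m) := by
  induction n generalizing m with
  | zero => simp
  | succ n ih => rw [pow_succ t, LinearEquiv.mul_apply, ← ih, ← e1, pow_succ]; group

theorem mem_cent {g : G} {t : M ≃ₗ[ZMod p] M} (e1 : ∀ m, g * e m * g⁻¹ = e (t m)) :
    g ∈ 𝐂(V) ↔ t = 1 :=
  ⟨fun hg => LinearEquiv.ext fun m => h.inj (by
    rw [← e1, ← U4.mem_cent.1 hg _ (h.mem m)]; simp), fun ht => U4.mem_cent.2 fun v hv => by
    obtain ⟨m, rfl⟩ := h.surj v hv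
    exact (mul_inv_eq_iff_eq_mul.1 (by simpa [ht] using e1 m)).symm⟩

theorem noTr [Finite G] [hp : Fact p.Prime] (hP : PV p V) : NoTr h.aut := by
  rintro t ⟨g, hg, e1⟩ l u ht
  have h1 : ∀ (n : ℕ) m, (t ^ n) m = m + ((n : ZMod p) * l m) • u := fun n => by
    induction n with
    | zero => simp
    | succ n ih =>
      intro m
      rw [pow_succ, LinearEquiv.mul_apply, ih, ht.2]
      simp only [map_add, map_smul, ht.1, smul_eq_mul, Nat.cast_succ]
      module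
  obtain ⟨v, hv, ⟨j, hj⟩, e2⟩ := exists_ppart hp.out (A := V) (k := g) (n := 1)
    ((h.mem_cent (h.conj_pow e1 _)).2 (LinearEquiv.ext fun m => by simp [h1]))
  exact (h.mem_cent fun m => (e2 _ (h.mem m)).trans (e1 m)).1 (hP v (zpowers_le.2 hg hv) j hj)

end Br

theorem zmod_cast_pred [hp : Fact p.Prime] : ((p - 1 : ℕ) : ZMod p) ≠ 0 := by
  rw [Nat.cast_pred hp.out.pos]
  simp

variable [Finite G]

theorem inf_cent_ne_bot (hp : p.Prime) (hV : IsPGroup p V) (hW : IsPGroup p W) (h : W ≤ 𝐍(V))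
    (h1 : V ≠ ⊥) : V ⊓ 𝐂(W) ≠ ⊥ := fun e => by
  have := Fact.mk hp
  exact inf_centralizer_ne_bot_of_isNilpotent (H := V ⊔ W)
    (IsPGroup.to_sup_of_normal_left' hV hW h).isNilpotent le_sup_left (sup_le le_normalizer h) h1
    (le_bot_iff.1 (e ▸ inf_le_inf_left V (centralizer_le (show W ≤ V ⊔ W from le_sup_right))))

omit [Finite G] in
theorem EA.exists_fn (hp : p.Prime) (hV : EA p V) (hW : W ≤ V) {a : G} (ha : a ∈ V)
    (haW : a ∉ W) : ∃ l : G → ZMod p, Fn p V l ∧ l a = 1 ∧ ∀ w ∈ W, l w = 0 := by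
  have := Fact.mk hp
  obtain ⟨M, _, _, e, h⟩ := hV.br
  obtain ⟨a, rfl⟩ := h.surj a ha
  let U : Submodule (ZMod p) M :=
    { carrier := {m | e m ∈ W}
      add_mem' := fun ha hb => (h.add _ _ ▸ mul_mem ha hb : e _ ∈ W)
      zero_mem' := (h.zero ▸ one_mem W : e _ ∈ W)
      smul_mem' := fun c _ hx => (h.smul c _ ▸ pow_mem hx _ : e _ ∈ W) }
  obtain ⟨f, f1, f2⟩ := exists_dual (W := U) (a := a) haW
  obtain ⟨l, hl⟩ := h.exists_fun f
  refine ⟨l, fun a ha b hb => ?_, (hl a).trans f1, fun w hw => ?_⟩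
  · obtain ⟨m, rfl⟩ := h.surj a ha
    obtain ⟨n, rfl⟩ := h.surj b hb
    rw [← h.add, hl, hl, hl, map_add]
  · obtain ⟨m, rfl⟩ := h.surj w (hW hw)
    exact (hl m).trans (f2 m hw)

theorem EA.nonempty_equiv (hp : p.Prime) (hV : EA p V) (hW : EA p W)
    (h : Nat.card V = Nat.card W) : Nonempty (V ≃* W) := by
  have := Fact.mk hp
  obtain ⟨M, _, _, e, h1⟩ := hV.br
  obtain ⟨M', _, _, e', h2⟩ := hW.br
  have := h1.finite
  have := h2.finite
  have key : ∀ {V : Subgroup G} {M : Type u} [AddCommGroup M] [Module (ZMod p) M] {e : M → G},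
      Br p V e → Nonempty (Multiplicative M ≃* V) := fun {V M _ _ e} h => ⟨MulEquiv.ofBijective
    (MonoidHom.mk' (fun m : Multiplicative M => (⟨e m.toAdd, h.mem _⟩ : V))
      fun a b => Subtype.ext (h.add _ _))
    ⟨fun _ _ e' => h.inj (congrArg Subtype.val e'), fun v => by
      obtain ⟨m, hm⟩ := h.surj v v.2
      exact ⟨Multiplicative.ofAdd m, Subtype.ext hm⟩⟩⟩
  obtain ⟨a⟩ := key h1
  obtain ⟨b⟩ := key h2
  have h3 : Module.finrank (ZMod p) M = Module.finrank (ZMod p) M' :=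
    Nat.pow_right_injective hp.two_le (by
      have e1 := Module.natCard_eq_pow_finrank (K := ZMod p) (V := M)
      have e2 := Module.natCard_eq_pow_finrank (K := ZMod p) (V := M')
      rw [Nat.card_zmod] at e1 e2
      simp only
      rw [← e1, ← e2, h1.card, h2.card, h])
  exact ⟨(a.symm.trans (LinearEquiv.ofFinrankEq M M' h3).toAddEquiv.toMultiplicative).trans b⟩

theorem Br.tr_mem [hp : Fact p.Prime] {M : Type u} [AddCommGroup M] [Module (ZMod p) M] {e : M → G}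
    (h : Br p V e) (hV : EA p V) (hN : NA V) (hP : ¬ PV p V) :
    ∀ t l u, Tr t l u → t ∈ h.aut := fun t l u ht => by
  have := h.normal hN
  by_contra h0
  refine hP fun g hg k hk => ?_
  obtain ⟨s, hs, e1⟩ := h.exists_aut hg
  by_cases hb : V = ⊥
  · exact U4.mem_cent.2 fun x hx => by simp [mem_bot.1 (hb ▸ hx)]
  have hz : IsPGroup p (zpowers g) := isPGroup_zpowers_iff.2
    (((Nat.dvd_prime_pow hp.out).1 (orderOf_dvd_of_pow_eq_one hk)).imp fun _ h => h.2)
  obtain ⟨v, hv, v1⟩ := U4.exists_ne_one (inf_cent_ne_bot hp.out hV.isPGroup hz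
    (zpowers_le.2 hg) hb)
  obtain ⟨m, rfl⟩ := h.surj v hv.1
  refine (h.mem_cent e1).2 (LinearEquiv.ext fun x => ?_)
  have h1 : NoTr h.aut := fun t₀ h₀ l₀ u₀ h' => by_contra fun h1 => h0 (Hom.tr_mem h' h₀ h1 ht)
  simpa using h1.eig zmod_cast_pred (fun c => ZMod.pow_card_sub_one_eq_one) hs
    (v := m) (fun e' => v1 (h.eq_zero.2 e')) (c := 1) (h.inj (by
      rw [← e1, one_smul, U4.mem_cent.1 hv.2 g (mem_zpowers g), mul_inv_cancel_right])) x

/-- If the automizer contains a `p`-element it contains all transvections. -/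
theorem exists_transv (hp : p.Prime) (hV : EA p V) (hN : NA V) (h : ¬ PV p V) {l : G → ZMod p}
    (hl : Fn p V l) {u : G} (hu : u ∈ V) (h0 : l u = 0) :
    ∃ t ∈ 𝐍(V), ∀ v ∈ V, t * v * t⁻¹ = v * u ^ (l v).val := by
  have := Fact.mk hp
  obtain ⟨M, _, _, e, hb⟩ := hV.br
  obtain ⟨u, rfl⟩ := hb.surj u hu
  obtain ⟨f, hf⟩ := hb.exists_dual hl
  obtain ⟨t, ht⟩ := exists_tr ((hf u).trans h0)
  obtain ⟨g, hg, e1⟩ := hb.tr_mem hV hN h t f u ht
  refine ⟨g, hg, fun v hv => ?_⟩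
  obtain ⟨m, rfl⟩ := hb.surj v hv
  rw [e1, ht.2, hb.add, hb.smul, hf]

/-- In rank two `-1` is a product of transvections. -/
theorem exists_neg (hp : p.Prime) (hV : EA p V) (hN : NA V) (h : ¬ PV p V)
    (hc : Nat.card V = p ^ 2) : ∃ t ∈ 𝐍(V), ∀ v ∈ V, t * v * t⁻¹ = v⁻¹ := by
  have := Fact.mk hp
  obtain ⟨M, _, _, e, hb⟩ := hV.br
  have := hb.finite
  obtain ⟨t, ⟨g, hg, e1⟩, ht⟩ := neg_mem_of_two (hb.tr_mem hV hN h)
    (Nat.pow_right_injective hp.two_le (by
      simp only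
      rw [← hc, ← hb.card, Module.natCard_eq_pow_finrank (K := ZMod p), Nat.card_zmod]))
  refine ⟨g, hg, fun v hv => ?_⟩
  obtain ⟨m, rfl⟩ := hb.surj v hv
  rw [e1, ht, hb.neg]

/-- An element of a normal `p'`-subgroup with an eigenvector is a scalar. -/
theorem scalar_of_eig (hp : p.Prime) (hV : EA p V) (hN : NA V) (h : PV p V) {g : G}
    (hg : g ∈ 𝐍(V)) {a : G} (ha : a ∈ V) (h1 : a ≠ 1) {k : ℕ} (e : g * a * g⁻¹ = a ^ k) :
    ∀ b ∈ V, g * b * g⁻¹ = b ^ k := fun b hb => by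
  have := Fact.mk hp
  obtain ⟨M, _, _, ε, hε⟩ := hV.br
  have := hε.normal hN
  obtain ⟨a, rfl⟩ := hε.surj a ha
  obtain ⟨b, rfl⟩ := hε.surj b hb
  obtain ⟨s, hs, e1⟩ := hε.exists_aut hg
  rw [e1, (hε.noTr h).eig zmod_cast_pred (fun c => ZMod.pow_card_sub_one_eq_one) hs
    (v := a) (fun e' => h1 (hε.eq_zero.2 e')) (c := k) (hε.inj (by
      rw [← e1, e, Nat.cast_smul_eq_nsmul, hε.nsmul])), Nat.cast_smul_eq_nsmul, hε.nsmul]

/-- Normal `p'`-subgroups of `GL(V)` consist of scalars unless `|V| ∈ {4, 9}`. -/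
theorem scalar_of_big (hp : p.Prime) (hV : EA p V) (hN : NA V) (h : PV p V)
    (hb : 5 ≤ p ∨ p ^ 3 ≤ Nat.card V) {g : G} (hg : g ∈ 𝐍(V)) :
    ∃ k : ℕ, ∀ b ∈ V, g * b * g⁻¹ = b ^ k := by
  have := Fact.mk hp
  obtain ⟨M, _, _, ε, hε⟩ := hV.br
  have := hε.normal hN
  have := hε.finite
  obtain ⟨s, hs, e1⟩ := hε.exists_aut hg
  have h1 : 5 ≤ p → ∃ b : ZMod p, b ≠ 0 ∧ 1 - b ^ 2 ≠ 0 := fun h5 => ⟨2, fun e => by
    have := Nat.le_of_dvd two_pos ((ZMod.natCast_eq_zero_iff 2 p).1 (by exact_mod_cast e))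
    omega, fun e => by
    have := Nat.le_of_dvd three_pos ((ZMod.natCast_eq_zero_iff 3 p).1 (by
      push_cast; linear_combination -e))
    omega⟩
  obtain ⟨c, hc⟩ := (hε.noTr h).scalar zmod_cast_pred (fun c => ZMod.pow_card_sub_one_eq_one)
    (hb.imp h1 fun h3 f f' => by
      by_contra! h4
      have h5 := Nat.card_le_card_of_injective (f.prod f') ((injective_iff_map_eq_zero _).2
        fun x hx => by_contra fun e => h4 x e (congrArg Prod.fst hx) (congrArg Prod.snd hx))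
      rw [hε.card, Nat.card_prod, Nat.card_zmod] at h5
      have := hp.two_le
      nlinarith [h3.trans h5]) hs
  refine ⟨c.val, fun b hb => ?_⟩
  obtain ⟨b, rfl⟩ := hε.surj b hb
  rw [e1, hc, hε.smul]

end CfsgLib.Hom
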