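import Cfsg.Agent.Lib.Hom.Two
import Cfsg.Agent.Lib.Hom.Dih
import Cfsg.Agent.Lib.Hom.Cen

/-!
# Homogeneous quasisimple groups
-/

set_option autoImplicit false

namespace CfsgLib.Hom

open Subgroup Cfsg CfsgLib.FT CfsgLib.FT.BGN Matrix MatrixGroups

universe u

theorem simple_hm {G : Type u} [Group G] [Finite G] [IsSimpleGroup G]
    (hna : ¬ IsMulCommutative G) (hG : Hm G) :
    ∃ (p : ℕ) (_ : Fact p.Prime), (p = 5 ∨ p = 7) ∧ Nonempty (G ≃* PSL(2, ZMod p)) :=
  psl_of_dih hna hG.ow (dih_of_c2 hna hG.ow (c2_of_simple hna hG))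

theorem oc_of_card_dvd {G : Type*} [Group G] (h : Nat.card G ∣ 840) : SW.OC G := by
  intro p hp h2 P hP
  have := Fact.mk hp
  have : Finite G := Nat.finite_of_card_ne_zero fun e => by simp [e] at h
  obtain ⟨k, hk⟩ := IsPGroup.iff_card.1 hP
  have h1 := (card_subgroup_dvd_card P).trans h
  refine isCyclic_of_card_dvd_prime (p := p) ?_
  rw [hk] at h1 ⊢
  rcases k with _ | _ | k
  · simp
  · simp
  · have h3 : p * p ∣ 840 := Dvd.dvd.trans ⟨p ^ k, by ring⟩ h1
    have h4 : p ≤ 29 := by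
      have := Nat.le_of_dvd (by norm_num) h3
      nlinarith
    have h5 := hp.two_le
    interval_cases p <;> omega

theorem quasi_hm {G : Type u} [Group G] [Finite G] (hG : Hm G) (hq : IsQuasisimple G)
    (hs : ¬ IsSimpleGroup G) : Nonempty (G ≃* SL(2, ZMod 5)) := by
  obtain ⟨hp1, hs1⟩ := hq
  have hz : center G ≠ ⊥ := fun h =>
    hs ((QuotientGroup.quotientMulEquivOfEq h).trans QuotientGroup.quotientBot).symm.isSimpleGroup
  obtain ⟨h1, -, h3⟩ := center_struct hG hp1.1 hz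
  obtain ⟨p, hp, h5, ⟨e⟩⟩ := psl_of_dih (Group.IsPerfect.not_isMulCommutative (G ⧸ center G))
    (hG.ow.quot (IsPGroup.of_card (n := 1) h1)) h3
  have hnd : ∀ k : ℕ, 0 < k → k < 5 → (k : ZMod p) ≠ 0 := fun k h0 hk h =>
    absurd (Nat.le_of_dvd h0 ((ZMod.natCast_eq_zero_iff k p).1 h)) (by omega)
  have h2 : (2 : ZMod p) ≠ 0 := hnd 2 two_pos (by norm_num)
  have hk : (e.toMonoidHom.comp (QuotientGroup.mk' (center G))).ker = center G := by
    rw [MonoidHom.ker_comp_of_injective _ _ e.injective, QuotientGroup.ker_mk']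
  obtain ⟨-, ⟨⟨f⟩⟩ | ⟨⟨f⟩⟩⟩ := SW.quasi h2 (Matrix.SL2.commutator_eq_top h2 fun h =>
    hnd 3 three_pos (by norm_num) (by linear_combination h)) hp1.1
    (oc_of_card_dvd (by
      rw [SL2C.card_PSL2 h2, Nat.card_zmod]
      rcases h5 with rfl | rfl <;> norm_num))
    ⟨e.surjective.comp (QuotientGroup.mk'_surjective _), hk.le⟩
  · exact absurd (f.trans e.symm).isSimpleGroup hs
  · rcases h5 with rfl | rfl
    · exact ⟨f⟩
    · exact absurd (hG.of_equiv f) not_hm_sl7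

end CfsgLib.Hom
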