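import Cfsg.Agent.Lib.Hom.Lin

/-!
# Case I and the consequences of `OW`
-/

set_option autoImplicit false

namespace CfsgLib.Hom

open Subgroup Cfsg CfsgLib.FT CfsgLib.FT.BGN CfsgLib.GW

variable {G : Type*} [Group G] [Finite G] {p : ℕ}

theorem isPGroup_zpowers_of_pow (hp : p.Prime) {g : G} {k : ℕ} (hk : g ^ p ^ k = 1) :
    IsPGroup p (zpowers g) :=
  have := Fact.mk hp
  isPGroup_zpowers_iff.2 (((Nat.dvd_prime_pow hp).1 (orderOf_dvd_of_pow_eq_one hk)).imp fun _ h => h.2)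

omit [Finite G] in
theorem exists_pow_of_mem {R : Subgroup G} (hR : IsPGroup p R) {g : G} (hg : g ∈ R) :
    ∃ k, g ^ p ^ k = 1 := (hR ⟨g, hg⟩).imp fun _ h => by simpa using congrArg Subtype.val h

theorem exists_mx_in {A R : Subgroup G} (hA : EA p A) (hR : A ≤ R) :
    ∃ E, A ≤ E ∧ E ≤ R ∧ EA p E ∧ ∀ x ∈ R, x ∈ 𝐂(E) → x ^ p = 1 → x ∈ E := by
  obtain ⟨E, h1, h2⟩ := exists_maximal_ge_of_wellFoundedGT (fun E => E ≤ R ∧ EA p E) A ⟨hR, hA⟩
  exact ⟨E, h1, h2.1.1, h2.1.2, fun x hx hc e => h2.2 ⟨sup_le h2.1.1 (zpowers_le.2 hx),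
    h2.1.2.sup (EA.zpowers e) (zpowers_le.2 hc)⟩ le_sup_left (mem_sup_right (mem_zpowers x))⟩

theorem exists_mx {A : Subgroup G} (hA : EA p A) : ∃ E, A ≤ E ∧ EA p E ∧ Mx p E := by
  obtain ⟨E, h1, -, h2, h3⟩ := exists_mx_in hA le_top
  exact ⟨E, h1, h2, fun x => h3 x (mem_top x)⟩

theorem le_cent_of_mx (hp : p.Prime) {A R : Subgroup G} (hR : IsPGroup p R) (hA : EA p A)
    (h1 : A ≤ R) (hm : ∀ x ∈ R, x ∈ 𝐂(A) → x ^ p = 1 → x ∈ A) (h : PV p A) : R ≤ 𝐂(A) := by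
  have := Fact.mk hp
  by_contra e
  obtain ⟨n, hn, hn'⟩ := SetLike.exists_of_lt (lt_inf_normalizer_of_isPGroup hR
    (lt_of_le_of_ne (inf_le_left (b := 𝐂(A))) fun e' => e (e' ▸ inf_le_right)))
  obtain ⟨k, hk⟩ := exists_pow_of_mem hR hn.1
  refine hn' ⟨hn.1, h n (mem_normalizer_of_conj_mem fun v hv => ?_) k hk⟩
  have h2 := conj_mem_of_mem_normalizer hn.2 (show v ∈ R ⊓ 𝐂(A) from ⟨h1 hv, hA.le_cent hv⟩)
  exact hm _ h2.1 h2.2 (by rw [conj_pow, hA.pow v hv]; simp)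

/-- In case I the elements of order `p` of a `p`-subgroup are central. -/
theorem C1.le_cent (hp : p.Prime) (h : C1 p G) {R : Subgroup G} (hR : IsPGroup p R) {a : G}
    (ha : a ∈ R) (e : a ^ p = 1) : R ≤ 𝐂[a] := by
  obtain ⟨E, h1, h2, h3, h4⟩ := exists_mx_in (EA.zpowers e) (zpowers_le.2 ha)
  exact (le_cent_of_mx hp hR h3 h2 h4 (h E h3)).trans (U4.cent_le_cent1 (h1 (mem_zpowers a)))

/-- `Ω₁(R)` in case I. -/
theorem C1.exists_omega (hp : p.Prime) (h : C1 p G) {R : Subgroup G} (hR : IsPGroup p R) :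
    ∃ V : Subgroup G, EA p V ∧ V ≤ 𝐂(R) ∧ 𝐍(R) ≤ 𝐍(V) ∧ ∀ a, a ∈ V ↔ a ∈ R ∧ a ^ p = 1 := by
  have key : ∀ a ∈ R, a ^ p = 1 → ∀ b ∈ R, a * b = b * a := fun a ha e b hb =>
    U4.mem_cent1'.1 (h.le_cent hp hR ha e hb)
  let V : Subgroup G :=
    { carrier := {a | a ∈ R ∧ a ^ p = 1}
      one_mem' := ⟨one_mem R, one_pow p⟩
      mul_mem' := fun {a b} ha hb => ⟨mul_mem ha.1 hb.1, by
        rw [Commute.mul_pow (key a ha.1 ha.2 b hb.1), ha.2, hb.2, one_mul]⟩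
      inv_mem' := fun ha => ⟨inv_mem ha.1, by rw [inv_pow, ha.2, inv_one]⟩ }
  exact ⟨V, ⟨fun v hv => hv.2, fun a ha b hb => key a ha.1 ha.2 b hb.1⟩,
    fun a ha => U4.mem_cent.2 fun b hb => (key a ha.1 ha.2 b hb).symm,
    fun n hn => mem_normalizer_of_conj_mem fun v hv => ⟨conj_mem_of_mem_normalizer hn hv.1, by
      rw [conj_pow, hv.2]; simp⟩, fun _ => Iff.rfl⟩

theorem c1_of_pv (hp : p.Prime) {E : Subgroup G} (hE : EA p E) (hm : Mx p E) (h : PV p E) :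
    C1 p G := fun V hV g hg k hk => by
  have := Fact.mk hp
  obtain ⟨P, h1, hP⟩ := IsSylowIn.exists_ge hE.isPGroup le_top
  have h2 := le_cent_of_mx hp hP.isPGroup hE h1 (fun x _ => hm x) h
  obtain ⟨c, -, hc⟩ := hP.exists_conj_le (IsPGroup.to_sup_of_normal_left' hV.isPGroup
    (isPGroup_zpowers_of_pow hp hk) (zpowers_le.2 hg)) le_top
  refine U4.mem_cent.2 fun v hv => ?_
  have h3 := h2 (hc (U4.conj_mem_conj_iff.2 (mem_sup_left hv)))
  have h4 := U4.mem_cent.1 (h2 (hc (U4.conj_mem_conj_iff.2 (mem_sup_right (mem_zpowers g))))) _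
    (hm _ h3 (by rw [conj_pow, hV.pow v hv]; simp))
  rw [_root_.conj_mul, _root_.conj_mul] at h4
  exact mul_left_cancel (mul_right_cancel h4)

/-- A `p'`-element centralizing the elements of order `p` of `R` centralizes `R` (`p` odd). -/
theorem cent_of_omega (hp : p.Prime) (hp2 : p ≠ 2) {R : Subgroup G} (hR : IsPGroup p R) {g : G}
    (hg : g ∈ 𝐍(R)) (ho : (orderOf g).Coprime p) (h : ∀ a ∈ R, a ^ p = 1 → g * a * g⁻¹ = a) :
    g ∈ 𝐂(R) := by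
  have := Fact.mk hp
  refine Cop.commutator_eq_bot_iff_le_centralizer'.1
    (Cop.commutator_eq_bot_of_centralizes_omega_odd hp2 hR (zpowers_le.2 hg)
      (by rwa [Nat.card_zpowers]) fun x hx e => ?_) (mem_zpowers g)
  rw [U4.cent_zpowers]
  exact U4.mem_cent1_comm.1 (U4.mem_cent1_of_conj_eq (h x hx e))

/-- If all elements of odd prime order `p` are central there is a normal `p`-complement. -/
theorem hnpc_of_central (hp : p.Prime) (hp2 : p ≠ 2) (h : ∀ a : G, a ^ p = 1 → a ∈ center G) :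
    HasNormalPComplement p G :=
  have := Fact.mk hp
  FrobNPC.hnpc_of_primePow_centralizes fun _ hH _ g hg q k hq hqp ho => cent_of_omega hp hp2 hH hg
    (ho ▸ ((Nat.coprime_primes hq hp).2 hqp).pow_left k) fun a _ e => by
      rw [mem_center_iff.1 (h a e) g, mul_inv_cancel_right]

section Lift

variable {H : Type*} [Group H] {π : G →* H}

theorem eq_one_of_ker (h2 : IsPGroup 2 π.ker) {z : G} (hz : π z = 1) {n : ℕ} (hn : Odd n)
    (e : z ^ n = 1) : z = 1 := by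
  obtain ⟨k, hk⟩ := exists_pow_of_mem h2 (show z ∈ π.ker from hz)
  rw [← pow_one z, ← (Nat.Coprime.pow_left k (Nat.coprime_two_left.2 hn)).gcd_eq_one, pow_gcd_eq_one]
  exact ⟨hk, e⟩

theorem exists_lift (hπ : Function.Surjective π) (h2 : IsPGroup 2 π.ker) {x : H} {n : ℕ}
    (hn : Odd n) (e : x ^ n = 1) : ∃ y, π y = x ∧ y ^ n = 1 := by
  obtain ⟨y, rfl⟩ := hπ x
  obtain ⟨u, ⟨i, hi⟩, v, -, h1, -, ⟨k, hk⟩, ho⟩ := exists_p_part Nat.prime_two y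
  have h3 : π u = 1 := by
    rw [← pow_one (π u), ← (Nat.Coprime.pow_left k (Nat.coprime_two_left.2 hn)).gcd_eq_one,
      pow_gcd_eq_one, ← map_pow, ← hk, pow_orderOf_eq_one, map_one, ← hi, map_zpow, ← zpow_natCast,
      ← zpow_mul, mul_comm, zpow_mul, zpow_natCast, e, one_zpow]
    exact ⟨rfl, rfl⟩
  have h4 : π v = π y := by rw [h1, map_mul, h3, one_mul]
  exact ⟨v, h4, eq_one_of_ker h2 (by rw [map_pow, h4, e]) (Nat.coprime_two_right.1 ho) (by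
    rw [← pow_mul, mul_comm, pow_mul, pow_orderOf_eq_one, one_pow])⟩

theorem lift_unique (hk : π.ker ≤ center G) (h2 : IsPGroup 2 π.ker) {a b : G} {n : ℕ} (hn : Odd n)
    (ha : a ^ n = 1) (hb : b ^ n = 1) (e : π a = π b) : a = b := by
  have h1 : π (a * b⁻¹) = 1 := by simp [e]
  have h3 : Commute (a * b⁻¹) b := (mem_center_iff.1 (hk h1) b).symm
  exact mul_inv_eq_one.1 (eq_one_of_ker h2 h1 hn (by
    simpa [ha, hb] using (h3.mul_pow n).symm))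

end Lift

namespace OW

variable (h : OW G)
include h

/-- An element whose square centralizes `V` centralizes or inverts `V`. -/
theorem pm (hp : p.Prime) (hp2 : p ≠ 2) {V : Subgroup G} (hV : EA p V) {g : G} (hg : g ∈ 𝐍(V))
    (h2 : g * g ∈ 𝐂(V)) : g ∈ 𝐂(V) ∨ ∀ v ∈ V, g * v * g⁻¹ = v⁻¹ := by
  refine or_iff_not_imp_left.2 fun e => ?_
  obtain ⟨v, hv, e⟩ : ∃ v ∈ V, v * g ≠ g * v := by simpa [U4.mem_cent] using e
  have key : ∀ w ∈ V, w ^ (p - 1) = w⁻¹ := fun w hw => eq_inv_of_mul_eq_one_left (by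
    rw [← pow_succ, Nat.sub_add_cancel hp.pos, hV.pow w hw])
  have h1 := mul_mem (conj_mem_of_mem_normalizer hg hv) (inv_mem hv)
  refine fun w hw => key w hw ▸ scalar_of_eig hp hV (h.na p hp hp2 V hV) (h.c1 p hp hp2 V hV) hg h1
    (fun e' => e (mul_inv_eq_iff_eq_mul.1 (mul_inv_eq_one.1 e')).symm) ?_ w hw
  rw [key _ h1, show g * (g * v * g⁻¹ * v⁻¹) * g⁻¹ = g * g * v * (g * g)⁻¹ * (g * v⁻¹ * g⁻¹) by group,
    ← U4.mem_cent.1 h2 v hv]
  group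

/-- A `p'`-element normalizing the `p`-group `R` and commuting with an element `a` of order `p`
of `C(R)` centralizes `R`. -/
theorem cent_of_fix (hp : p.Prime) (hp2 : p ≠ 2) {R : Subgroup G} (hR : IsPGroup p R) {g a : G}
    (hg : g ∈ 𝐍(R)) (ho : (orderOf g).Coprime p) (ha : a ∈ 𝐂(R)) (h1 : a ≠ 1) (hap : a ^ p = 1)
    (e : g * a * g⁻¹ = a) : g ∈ 𝐂(R) := by
  obtain ⟨V, hV, -, h3, h4⟩ := (h.c1 p hp hp2).exists_omega hp hR
  have h5 := hV.sup (EA.zpowers hap)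
    (zpowers_le.2 (centralizer_le (show V ≤ R from fun v hv => ((h4 v).1 hv).1) ha))
  refine cent_of_omega hp hp2 hR hg ho fun b hb e' => ?_
  simpa using scalar_of_eig hp h5 (h.na p hp hp2 _ h5) (h.c1 p hp hp2 _ h5) (g := g)
    (mem_normalizer_of_map_conj_eq (by
      rw [U4.conj_sup, map_conj_eq_of_mem_normalizer (h3 hg), ← U4.zpowers_conj, e]))
    (mem_sup_right (mem_zpowers a)) h1 (k := 1) (by simpa using e) b
    (mem_sup_left ((h4 b).2 ⟨hb, e'⟩))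

theorem exists_compl_cent {L : Subgroup G} {r : ℕ} (hr : r.Prime) (hr2 : r ≠ 2)
    {ρ : G} (hρ : orderOf ρ = r) (hL : ρ ∈ L) : ¬ r ∣ (𝐂[ρ]).relIndex L ∧
      ∃ D ≤ L ⊓ 𝐂[ρ], L ⊓ 𝐂[ρ] ≤ 𝐍(D) ∧ (Nat.card D).Coprime r ∧
        ∀ g ∈ L ⊓ 𝐂[ρ], (orderOf g).Coprime r → g ∈ D := by
  have := Fact.mk hr
  have ρp : ρ ^ r = 1 := hρ ▸ pow_orderOf_eq_one ρ
  obtain ⟨R, h1, hR⟩ := IsSylowIn.exists_ge (EA.zpowers ρp).isPGroup (zpowers_le.2 hL)
  have h2 := (h.c1 r hr hr2).le_cent hr hR.isPGroup (h1 (mem_zpowers ρ)) ρp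
  refine ⟨fun e => hR.not_dvd (e.trans (relIndex_dvd_of_le_left L h2)), ?_⟩
  have hK : L ⊓ 𝐂[ρ] ≤ 𝐂[ρ] := inf_le_right
  generalize L ⊓ 𝐂[ρ] = K at hK
  have h3 : HasNormalPComplement r K :=
    FrobNPC.hnpc_of_primePow_centralizes fun Q hQ _ g hg q k hq hqp ho => by
      have h4 := h.cent_of_fix hr hr2 (hQ.map K.subtype) (g := g) (a := ρ)
        (mem_normalizer_of_conj_mem (by
          rintro _ ⟨x, hx, rfl⟩
          exact ⟨_, conj_mem_of_mem_normalizer hg hx, rfl⟩))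
        (by rw [orderOf_coe, ho]; exact ((Nat.coprime_primes hq hr).2 hqp).pow_left k)
        (U4.mem_cent.2 (by rintro _ ⟨x, -, rfl⟩; exact U4.mem_cent1.1 (hK x.2)))
        (fun e => hr.one_lt.ne (by rw [← hρ, e, orderOf_one])) ρp
        (U4.conj_eq_of_mem_cent1 (hK g.2))
      exact U4.mem_cent.2 fun x hx => Subtype.ext (U4.mem_cent.1 h4 x ⟨x, hx, rfl⟩)
  refine ⟨(pResidual r K).map K.subtype, map_subtype_le _, fun g hg =>
    mem_normalizer_of_conj_mem ?_, ?_, fun g hg ho => ⟨⟨g, hg⟩, ?_, rfl⟩⟩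
  · rintro _ ⟨a, ha, rfl⟩
    exact ⟨_, (PRes.pResidual_normal : (pResidual r K).Normal).conj_mem a ha ⟨g, hg⟩, rfl⟩
  · rw [card_map_of_injective K.subtype_injective]
    exact PCompl.hnpc_iff_coprime_pResidual.1 h3
  · exact (PCompl.hnpc_mem_pResidual_iff h3).2 (by rwa [← orderOf_coe])

theorem not_dvd {L T : Subgroup G} {r p : ℕ} (hr : r.Prime) (hr2 : r ≠ 2)
    (hp : p.Prime) (hpr : p ≠ r) {ρ : G} (hρ : orderOf ρ = r) (hL : ρ ∈ L)
    (hT : IsSylowIn p T (L ⊓ 𝐂[ρ])) : ¬ r ∣ (𝐂[ρ] ⊓ 𝐍(T)).relIndex L := by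
  have := Fact.mk hp
  obtain ⟨h1, D, hD, hn, hc, hm⟩ := h.exists_compl_cent hr hr2 hρ hL
  have h2 : T ≤ D := fun g hg => hm g (hT.le hg) (by
    obtain ⟨k, hk⟩ := orderOf_eq_pow_of_mem_isPGroup hT.isPGroup hg
    rw [hk]
    exact ((Nat.coprime_primes hp hr).2 hpr).pow_left k)
  have h3 : (𝐍(T)).relIndex (L ⊓ 𝐂[ρ]) = (𝐍(T)).relIndex D := relIndex_eq_of_mul hD fun g hg => by
    obtain ⟨d, hd, e⟩ := (hT.mono h2 hD).frattini_elem (hn hg)
    exact ⟨d⁻¹, inv_mem hd, _, e, by simp⟩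
  rw [inf_comm, ← relIndex_inf_mul_relIndex, hr.dvd_mul, inf_comm, h3, not_or]
  exact ⟨fun e => hr.coprime_iff_not_dvd.1 hc.symm (e.trans (relIndex_dvd_card _ _)), h1⟩

/-- A `2`-group `D` centralizes the odd group `X` it normalizes as soon as, for every
`D`-invariant elementary abelian subgroup `V` of `X`, the element `d` centralizes `V`. -/
theorem cent_of_ea {X D : Subgroup G} (ho : Odd (Nat.card X)) (hD : IsPGroup 2 D)
    (hn : D ≤ 𝐍(X)) {d : G} (hd : d ∈ D)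
    (h1 : ∀ r : ℕ, r.Prime → r ≠ 2 → ∀ V ≤ X, EA r V → D ≤ 𝐍(V) → d ∈ 𝐂(V)) : d ∈ 𝐂(X) := by
  obtain ⟨k, hk⟩ := IsPGroup.iff_card.1 hD
  refine U4.mem_cent.2 fun x hx => U4.mem_cent1.1 (Cop.le_of_forall_invariant_sylowOf_le hn
    (hk ▸ Nat.Coprime.pow_left k (Nat.coprime_two_left.2 ho)) (Or.inr (solvable_of_odd ho))
    (K := 𝐂[d]) (fun q hq P hd' hP hDP => ?_) hx)
  have q2 : q ≠ 2 := fun e => absurd (ho.of_dvd_nat (e ▸ hd')) (by decide)
  have hPp := Cop.isPGroup_of_isPiHallOf hP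
  obtain ⟨V, hV, -, h3, h4⟩ := (h.c1 q hq.out q2).exists_omega hq.out hPp
  have h5 := h1 q hq.out q2 V (fun v hv => hP.1 ((h4 v).1 hv).1) hV (hDP.trans h3)
  obtain ⟨j, hj⟩ := orderOf_eq_pow_of_mem_isPGroup hD hd
  have h6 := cent_of_omega hq.out q2 hPp (hDP hd)
    (hj ▸ ((Nat.coprime_primes Nat.prime_two hq.out).2 q2.symm).pow_left j) fun a ha e => by
      rw [← U4.mem_cent.1 h5 a ((h4 a).2 ⟨ha, e⟩), mul_inv_cancel_right]
  exact fun a ha => U4.mem_cent1.2 (U4.mem_cent.1 h6 a ha)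

theorem of_surj {H : Type*} [Group H] {π : G →* H} (hπ : Function.Surjective π)
    (hk : π.ker ≤ center G) (h2 : IsPGroup 2 π.ker)
    (hc : ∀ φ : G ≃* G, ∃ ψ : H ≃* H, ∀ x, ψ (π x) = π (φ x)) : OW H := by
  have := Finite.of_surjective π hπ
  have key : ∀ p : ℕ, p.Prime → p ≠ 2 → ∀ V : Subgroup H, EA p V → ∃ U : Subgroup G, EA p U ∧
      (∀ a, a ∈ U ↔ π a ∈ V ∧ a ^ p = 1) ∧ ∀ g, π g ∈ 𝐍(V) → g ∈ 𝐍(U) := fun p hp hp2 V hV => by
    have h1 : ∀ a b, π a ∈ V → a ^ p = 1 → π b ∈ V → a * b = b * a := fun a b ha e hb =>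
      (mul_inv_eq_iff_eq_mul.1 (lift_unique hk h2 (hp.odd_of_ne_two hp2) (a := b * a * b⁻¹)
        (by rw [conj_pow, e]; simp) e (by simp [hV.comm _ hb _ ha]))).symm
    exact ⟨{ carrier := {a | π a ∈ V ∧ a ^ p = 1}
             one_mem' := ⟨by simp, one_pow p⟩
             mul_mem' := fun {a b} ha hb => ⟨by simpa using mul_mem ha.1 hb.1, by
               rw [Commute.mul_pow (h1 a b ha.1 ha.2 hb.1), ha.2, hb.2, one_mul]⟩
             inv_mem' := fun ha => ⟨by simpa using ha.1, by rw [inv_pow, ha.2, inv_one]⟩ },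
      ⟨fun v hv => hv.2, fun a ha b hb => h1 a b ha.1 ha.2 hb.1⟩, fun _ => Iff.rfl,
      fun g hg => mem_normalizer_of_conj_mem fun v hv => ⟨by
        simpa using conj_mem_of_mem_normalizer hg hv.1, by rw [conj_pow, hv.2]; simp⟩⟩
  refine ⟨fun p hp hp2 V hV g hg k e => ?_, fun p hp hp2 V hV f hf g hg => ?_, fun a b ha e => ?_⟩
  · obtain ⟨U, hU, h3, h4⟩ := key p hp hp2 V hV
    have ho := hp.odd_of_ne_two hp2
    obtain ⟨g, rfl, e0⟩ := exists_lift hπ h2 ho.pow e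
    refine U4.mem_cent.2 fun v hv => ?_
    obtain ⟨v, rfl, e'⟩ := exists_lift hπ h2 ho (hV.pow v hv)
    rw [← map_mul, U4.mem_cent.1 (h.c1 p hp hp2 U hU g (h4 g hg) k e0) v ((h3 v).2 ⟨hv, e'⟩), map_mul]
  · obtain ⟨U, hU, h3, h4⟩ := key p hp hp2 V hV
    have ho := hp.odd_of_ne_two hp2
    have h5 : ∀ x : H, ∃ y, x ∈ V → π y = x ∧ y ^ p = 1 := fun x => by
      by_cases e : x ∈ V
      · exact (exists_lift hπ h2 ho (hV.pow x e)).imp fun _ h _ => h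
      · exact ⟨1, fun h => absurd h e⟩
    choose L hL using h5
    have h6 : ∀ a ∈ U, π (L (f (π a))) = f (π a) ∧ L (f (π a)) ∈ U := fun a ha => by
      have h7 := hf.mem _ ((h3 a).1 ha).1
      exact ⟨(hL _ h7).1, (h3 _).2 ⟨(hL _ h7).1.symm ▸ h7, (hL _ h7).2⟩⟩
    obtain ⟨g, rfl⟩ := hπ g
    obtain ⟨g', hg', e⟩ := h.na p hp hp2 U hU (fun a => L (f (π a))) ⟨fun a ha => (h6 a ha).2,
      fun a ha b hb => lift_unique hk h2 ho (hU.pow _ (h6 _ (mul_mem ha hb)).2)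
        (hU.pow _ (mul_mem (h6 a ha).2 (h6 b hb).2)) (by
          rw [(h6 _ (mul_mem ha hb)).1, map_mul, map_mul, (h6 a ha).1, (h6 b hb).1,
            hf.mul _ ((h3 a).1 ha).1 _ ((h3 b).1 hb).1]),
      fun a ha e => eq_one_of_ker h2 (hf.inj _ ((h3 a).1 ha).1 (by
        rw [← (h6 a ha).1, e, map_one])) ho (hU.pow a ha)⟩ g (h4 g hg)
    have h7 : ∀ a ∈ V, π g' * f a * (π g')⁻¹ = f (π g * a * (π g)⁻¹) := fun a ha => by
      obtain ⟨a, rfl, e'⟩ := exists_lift hπ h2 ho (hV.pow a ha)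
      have h8 := (h3 a).2 ⟨ha, e'⟩
      have h9 := congrArg π (e a h8)
      rwa [(h6 _ (conj_mem_of_mem_normalizer (h4 g hg) h8)).1, map_mul, map_mul, map_mul, map_mul,
        map_inv, map_inv, (h6 a h8).1] at h9
    refine ⟨π g', mem_normalizer_of_conj_mem fun x hx => ?_, h7⟩
    obtain ⟨a, ha, rfl⟩ := hf.surj hx
    exact h7 a ha ▸ hf.mem _ (conj_mem_of_mem_normalizer hg ha)
  · have h3 : ∀ a : H, Odd (orderOf a) → ∃ y, π y = a ∧ orderOf y = orderOf a := fun a ha => by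
      obtain ⟨y, rfl, hy⟩ := exists_lift hπ h2 ha (pow_orderOf_eq_one a)
      exact ⟨y, rfl, Nat.dvd_antisymm (orderOf_dvd_of_pow_eq_one hy) (orderOf_map_dvd π y)⟩
    obtain ⟨x, rfl, hx⟩ := h3 a ha
    obtain ⟨y, rfl, hy⟩ := h3 b (e ▸ ha)
    obtain ⟨φ, rfl⟩ := h.cj x y (hx ▸ ha) (by rw [hx, hy, e])
    exact (hc φ).imp fun ψ hψ => hψ x

theorem of_equiv {H : Type*} [Group H] (e : G ≃* H) : OW H := by
  have h1 : e.toMonoidHom.ker = ⊥ := (MonoidHom.ker_eq_bot_iff _).2 e.injective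
  exact h.of_surj (π := e.toMonoidHom) e.surjective (h1 ▸ bot_le) (h1 ▸ IsPGroup.of_bot)
    fun φ => ⟨(e.symm.trans φ).trans e, fun x => by simp⟩

theorem quot (hG : IsPGroup 2 (center G)) : OW (G ⧸ center G) :=
  h.of_surj (QuotientGroup.mk'_surjective _) (QuotientGroup.ker_mk' _).le
    ((QuotientGroup.ker_mk' (center G)).symm ▸ hG)
    fun φ => ⟨BurnsideBasis.autQuotient (center G) φ, fun _ => rfl⟩

end OW

end CfsgLib.Hom
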