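import Cfsg.Agent.Lib.Hom.Odd
import Cfsg.Agent.Lib.SylowAction

/-!
# More consequences of `OW`
-/

set_option autoImplicit false

namespace CfsgLib.Hom

open Subgroup Cfsg CfsgLib.FT CfsgLib.FT.BGN CfsgLib.GW

theorem NoTr.scalar_of_comm {K M : Type*} [Field K] [AddCommGroup M] [Module K M]
    {N : Subgroup (M ≃ₗ[K] M)} [N.Normal] (h : NoTr N) {n : ℕ} (hn : (n : K) ≠ 0)
    (hK : ∀ c : K, c ≠ 0 → c ^ n = 1) (h2 : (2 : K) ≠ 0) {g : M ≃ₗ[K] M} (hg : g ∈ N)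
    (hc : ∀ k ∈ N, ∀ x, g (k x) = k (g x)) : ∃ c : K, ∀ x, g x = c • x := by
  by_contra h0
  have h1 : ∀ v ≠ 0, ∀ c : K, g v ≠ c • v := fun v hv c e => h0 ⟨c, h.eig hn hK hg hv e⟩
  obtain ⟨v, hv⟩ : ∃ v : M, v ≠ 0 := by
    by_contra! e
    exact h0 ⟨1, fun x => by rw [e (g x), e x, smul_zero]⟩
  obtain ⟨l, l1, l2⟩ := exists_dual2 (h1 v hv)
  obtain ⟨t, ht⟩ := exists_tr l2
  have h3 := hc _ (comm_mem hg t) v
  rw [ht.comm, ht.comm, l1, l2] at h3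
  have h4 : g (g (l (g⁻¹ v) • v + l (g⁻¹ v) • g⁻¹ v + g⁻¹ (g⁻¹ v))) = 0 := by
    simp only [map_add, map_smul, LinearEquiv.coe_inv, LinearEquiv.apply_symm_apply,
      LinearEquiv.symm_apply_apply, l2, zero_smul, sub_zero] at h3 ⊢
    linear_combination (norm := module) h3
  have h5 : l (g⁻¹ v) • g v + l (g⁻¹ v) • v + g⁻¹ v = 0 := by
    simpa using g.injective (h4.trans (map_zero g).symm)
  have h6 := congrArg l h5
  simp only [map_add, map_smul, l1, l2, smul_eq_mul, map_zero] at h6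
  rw [show l (g⁻¹ v) = 0 from (mul_eq_zero.1 (by linear_combination h6)).resolve_left h2] at h5
  exact hv (by simpa using h5)

variable {G : Type*} [Group G] [Finite G] {p : ℕ}

/-- Abelian normal `p'`-subgroups of `GL(V)` consist of scalars. -/
theorem scalar_of_comm (hp : p.Prime) (hp2 : p ≠ 2) {V : Subgroup G} (hV : EA p V) (hN : NA V)
    (h : PV p V) {g : G} (hg : g ∈ 𝐍(V))
    (hc : ∀ k ∈ 𝐍(V), ∀ v ∈ V, g * (k * v * k⁻¹) * g⁻¹ = k * (g * v * g⁻¹) * k⁻¹) :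
    ∃ k : ℕ, ∀ b ∈ V, g * b * g⁻¹ = b ^ k := by
  have := Fact.mk hp
  obtain ⟨M, _, _, ε, hε⟩ := hV.br
  have := hε.normal hN
  obtain ⟨s, hs, e1⟩ := hε.exists_aut hg
  obtain ⟨c, hc⟩ := (hε.noTr h).scalar_of_comm zmod_cast_pred
    (fun c => ZMod.pow_card_sub_one_eq_one) (fun e => hp2 ((Nat.prime_dvd_prime_iff_eq hp
      Nat.prime_two).1 ((ZMod.natCast_eq_zero_iff 2 p).1 (by exact_mod_cast e)))) hs (by
    rintro t ⟨k, hk, e2⟩ x
    exact hε.inj (by rw [← e1, ← e2, ← e2, ← e1, hc k hk _ (hε.mem x)]))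
  refine ⟨c.val, fun b hb => ?_⟩
  obtain ⟨b, rfl⟩ := hε.surj b hb
  rw [e1, hc, hε.smul]

omit [Finite G] in
theorem comm_mem_cent {V : Subgroup G} {x y : G} (hx : x ∈ 𝐍(V))
    (hy : y ∈ 𝐂(V) ∨ ∀ v ∈ V, y * v * y⁻¹ = v⁻¹) : y * x * y⁻¹ * x⁻¹ ∈ 𝐂(V) := by
  rcases hy with hy | hy
  · rw [mul_assoc, mul_assoc, ← mul_assoc x]
    exact mul_mem hy (conj_mem_of_mem_normalizer
      (H5.normalizer_le_normalizer_centralizer' V hx) (inv_mem hy))
  refine U4.mem_cent.2 fun v hv => ?_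
  have h1 := hy _ (inv_mem hv)
  have h2 := hy _ (conj_mem_of_mem_normalizer (inv_mem hx) (inv_mem hv))
  rw [inv_inv] at h1
  calc v * (y * x * y⁻¹ * x⁻¹) = y * x * y⁻¹ * (y * (x⁻¹ * v⁻¹ * x⁻¹⁻¹) * y⁻¹) * x⁻¹ := by
        nth_rewrite 1 [← h1]; group
    _ = _ := by rw [h2]; group

/-- If the normalizer of a Sylow `p`-subgroup centralizes its elements of order `p` there is a
normal `p`-complement. -/
theorem C1.hnpc (h : C1 p G) (hp : p.Prime) (hp2 : p ≠ 2) {R : Subgroup G} (hR : IsSylowIn p R ⊤)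
    (hn : ∀ n ∈ 𝐍(R), ∀ a ∈ R, a ^ p = 1 → n * a * n⁻¹ = a) : HasNormalPComplement p G := by
  have := Fact.mk hp
  have key : ∀ a ∈ R, a ^ p = 1 → ∀ g, g * a * g⁻¹ ∈ R → g * a * g⁻¹ = a := fun a ha e g hg => by
    have h1 := h.le_cent hp hR.isPGroup hg (by rw [conj_pow, e]; simp)
    obtain ⟨c, hc, e'⟩ := (hR.mono h1 le_top).exists_conj_eq (Q := g •ᶜ R)
      ((hR.map_conj_of_mem_normalizer (le_normalizer (mem_top g))).mono (U4.cent1_conj g a ▸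
        map_mono (h.le_cent hp hR.isPGroup ha e)) le_top)
    calc g * a * g⁻¹ = c * (g * a * g⁻¹) * c⁻¹ := (U4.conj_eq_of_mem_cent1 hc).symm
      _ = (c * g) * a * (c * g)⁻¹ := by group
      _ = a := hn (c * g) (mem_normalizer_of_map_conj_eq (by rw [map_conj_mul, e'])) a ha e
  refine FrobNPC.hnpc_of_primePow_centralizes fun Q hQ _ g hg q k hq hqp ho =>
    cent_of_omega hp hp2 hQ hg (ho ▸ ((Nat.coprime_primes hq hp).2 hqp).pow_left k) fun a ha e => ?_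
  obtain ⟨c, -, hc⟩ := hR.exists_conj_le hQ le_top
  have h0 : c * g * c⁻¹ * (c * a * c⁻¹) * (c * g * c⁻¹)⁻¹ = c * (g * a * g⁻¹) * c⁻¹ := by group
  have h1 := key _ (hc (U4.conj_mem_conj_iff.2 ha)) (by rw [conj_pow, e]; simp) (c * g * c⁻¹) (by
    rw [h0]
    exact hc (U4.conj_mem_conj_iff.2 (conj_mem_of_mem_normalizer hg ha)))
  rw [h0] at h1
  exact mul_left_cancel (mul_right_cancel h1)

namespace OW

variable (h : OW G)
include h

theorem cent_of_lt (hp : p.Prime) (hp2 : p ≠ 2) {V : Subgroup G} (hV : EA p V) {g : G}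
    (hg : g ∈ 𝐍(V)) {q j : ℕ} (hq : q.Prime) (hpq : p ≤ q) (ho : orderOf g = q ^ j) :
    g ∈ 𝐂(V) := by
  have := Fact.mk hp
  have := Fact.mk hq
  rcases hpq.eq_or_lt with rfl | hpq
  · exact h.c1 p hp hp2 V hV g hg j (ho ▸ pow_orderOf_eq_one g)
  by_cases hb : V = ⊥
  · exact U4.mem_cent.2 fun x hx => by simp [mem_bot.1 (hb ▸ hx)]
  suffices ∃ a ∈ V, a ≠ 1 ∧ g * a * g⁻¹ = a by
    obtain ⟨a, ha, h1, e⟩ := this
    exact U4.mem_cent.2 fun b hb => (mul_inv_eq_iff_eq_mul.1 ((scalar_of_eig hp hV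
      (h.na p hp hp2 V hV) (h.c1 p hp hp2 V hV) hg ha h1 (k := 1) (by simpa using e) b hb).trans
      (pow_one b))).symm
  by_cases hc : 5 ≤ p ∨ p ^ 3 ≤ Nat.card V
  · obtain ⟨k, hk⟩ := scalar_of_big hp hV (h.na p hp hp2 V hV) (h.c1 p hp hp2 V hV) hc hg
    obtain ⟨a, ha, h1⟩ := U4.exists_ne_one hb
    refine ⟨a, ha, h1, U4.conj_eq_of_mem_cent1 (U4.cent_zpowers a ▸ SW.mem_cent_of_cyclic hp
      (EA.zpowers (hV.pow a ha)).isPGroup inferInstance (mem_normalizer_of_conj_mem fun x hx => ?_)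
      ?_ ?_)⟩
    · rw [hk x (zpowers_le.2 ha hx)]; exact pow_mem hx k
    · rw [ho]; exact ((Nat.coprime_primes hq hp).2 hpq.ne').pow_left _
    · rw [ho]
      exact ((Nat.coprime_of_lt_prime (by have := hp.two_le; omega) (by omega) hq)).pow_left _
  obtain rfl : p = 3 := by
    have := hp.two_le
    have : p ≠ 4 := fun e => by rw [e] at hp; exact absurd hp (by decide)
    omega
  by_contra! h1
  have h2 := H4.ncard_modEq_ncard_fixedBy (G := ConjAct G) (Ω := G) (y := ConjAct.toConjAct g)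
    (p := q) (k := j) ((ConjAct.toConjAct.orderOf_eq g).trans ho) V
    fun x hx => conj_mem_of_mem_normalizer hg hx
  rw [show (V : Set G) ∩ MulAction.fixedBy G (ConjAct.toConjAct g) = {1} from Set.ext fun x =>
    ⟨fun hx => by_contra fun e => h1 x hx.1 e hx.2, by rintro rfl; exact ⟨one_mem V, smul_one _⟩⟩,
    Set.ncard_singleton, ← Nat.card_coe_set_eq] at h2
  obtain ⟨k, hk⟩ := IsPGroup.iff_card.1 hV.isPGroup
  have h3 : Nat.card (V : Set G) = 3 ^ k := hk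
  have h4 : k < 3 := (Nat.pow_lt_pow_iff_right (by norm_num : 1 < 3)).1 (by omega)
  have h5 := (Nat.modEq_iff_dvd' (Nat.card_pos (α := (V : Set G)))).1 h2.symm
  rw [h3] at h5
  interval_cases k
  · exact hb (card_eq_one.1 hk)
  · have := Nat.le_of_dvd two_pos h5
    omega
  · have := Nat.le_of_dvd two_pos (hq.dvd_of_dvd_pow (n := 3) h5)
    omega

theorem cent_of_ea' {X D : Subgroup G} (ho : Odd (Nat.card X))
    (hD : (Nat.card D).Coprime (Nat.card X)) (hn : D ≤ 𝐍(X)) {d : G} (hd : d ∈ D)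
    (h1 : ∀ r : ℕ, r.Prime → r ≠ 2 → ∀ V ≤ X, EA r V → D ≤ 𝐍(V) → d ∈ 𝐂(V)) : d ∈ 𝐂(X) := by
  refine U4.mem_cent.2 fun x hx => U4.mem_cent1.1 (Cop.le_of_forall_invariant_sylowOf_le hn
    hD (Or.inr (solvable_of_odd ho)) (K := 𝐂[d]) (fun q hq P hd' hP hDP => ?_) hx)
  have q2 : q ≠ 2 := fun e => absurd (ho.of_dvd_nat (e ▸ hd')) (by decide)
  have hPp := Cop.isPGroup_of_isPiHallOf hP
  obtain ⟨V, hV, -, h3, h4⟩ := (h.c1 q hq.out q2).exists_omega hq.out hPp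
  have h5 := h1 q hq.out q2 V (fun v hv => hP.1 ((h4 v).1 hv).1) hV (hDP.trans h3)
  have h6 := cent_of_omega hq.out q2 hPp (hDP hd)
    ((hD.coprime_dvd_left (Subgroup.orderOf_dvd_natCard _ hd)).coprime_dvd_right hd') fun a ha e => by
      rw [← U4.mem_cent.1 h5 a ((h4 a).2 ⟨ha, e⟩), mul_inv_cancel_right]
  exact fun a ha => U4.mem_cent1.2 (U4.mem_cent.1 h6 a ha)

end OW

end CfsgLib.Hom
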