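import Cfsg.Agent.Lib.Hom.SDd
import Cfsg.Agent.Lib.GD.Defs

/-!
# No semidihedral Sylow `2`-subgroups
-/

set_option autoImplicit false

namespace CfsgLib.Hom

open Subgroup Cfsg CfsgLib.FT CfsgLib.FT.BGN CfsgLib.GW CfsgLib.SW

theorem dih_of_frame {G : Type*} [Group G] [Finite G] {S : Subgroup G} (hS : IsSylowIn 2 S ⊤)
    {x y : G} (cov : ∀ s ∈ S, s ∈ zpowers x ∨ s * y⁻¹ ∈ zpowers x) (y2 : y * y = 1)
    (inv : y * x * y⁻¹ = x⁻¹) : GD.Dih G := by
  intro T hT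
  obtain ⟨g, -, hg⟩ := hS.exists_conj_le hT le_top
  have cov' : ∀ s ∈ T, s ∈ zpowers (g⁻¹ * x * g⁻¹⁻¹) ∨
      s * (g⁻¹ * y * g⁻¹⁻¹)⁻¹ ∈ zpowers (g⁻¹ * x * g⁻¹⁻¹) := fun s hs => by
    rw [U4.zpowers_conj, mem_map_conj_iff, mem_map_conj_iff]
    simpa [mul_assoc] using cov _ (hg (U4.conj_mem_conj_iff.2 hs))
  replace y2 : g⁻¹ * y * g⁻¹⁻¹ * (g⁻¹ * y * g⁻¹⁻¹) = 1 := by rw [_root_.conj_mul, y2]; simp
  replace inv : g⁻¹ * y * g⁻¹⁻¹ * (g⁻¹ * x * g⁻¹⁻¹) * (g⁻¹ * y * g⁻¹⁻¹)⁻¹ = (g⁻¹ * x * g⁻¹⁻¹)⁻¹ := by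
    rw [conj_inv, conj_inv, ← inv]; group
  generalize g⁻¹ * x * g⁻¹⁻¹ = x at cov' inv
  generalize g⁻¹ * y * g⁻¹⁻¹ = y at cov' inv y2
  obtain ⟨c, hc⟩ := (isCyclic_iff_exists_zpowers_eq_top.1
    (isCyclic_of_le (inf_le_right : T ⊓ zpowers x ≤ _)))
  have e : zpowers (c : G) = T ⊓ zpowers x := by
    have := congrArg (Subgroup.map (T ⊓ zpowers x).subtype) hc
    rwa [MonoidHom.map_zpowers, ← MonoidHom.range_eq_map, range_subtype] at this
  have key : ∀ w ∈ T, w ∉ zpowers (c : G) → ∃ a ∈ zpowers x, w = a * y := fun w hw hw' =>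
    ⟨_, (cov' w hw).resolve_left fun h => hw' (e.ge ⟨hw, h⟩), by simp⟩
  have k2 : ∀ a b, b ∈ zpowers x → a * y * (b * y) = a * b⁻¹ := fun a b hb => by
    rw [show a * y * (b * y) = a * (y * b * y⁻¹) * (y * y) by group, inverts_zpowers inv b hb, y2,
      mul_one]
  refine ⟨c, c.2.1, fun w hw hw' => ?_⟩
  obtain ⟨a, ha, rfl⟩ := key w hw hw'
  refine ⟨by rw [k2 a a ha, mul_inv_cancel], ?_, fun v hv hv' => e.ge ⟨mul_mem hw hv, ?_⟩⟩
  · rw [show a * y * c * (a * y)⁻¹ = a * (y * c * y⁻¹) * a⁻¹ by group, inverts_zpowers inv _ c.2.2,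
      comm_A ha ((zpowers x).inv_mem c.2.2), mul_inv_cancel_right]
  · obtain ⟨b, hb, rfl⟩ := key v hv hv'
    exact k2 a b hb ▸ (zpowers x).mul_mem ha (inv_mem hb)

theorem dih_of_c2 {G : Type*} [Group G] [Finite G] [IsSimpleGroup G]
    (hna : ¬ IsMulCommutative G) (oc : OW G) (c2 : SW.C2 G) : GD.Dih G := by
  obtain ⟨P⟩ : Nonempty (Sylow 2 G) := inferInstance
  have hS := IsSylowIn.sylow_top P
  have hG := BSW.commutator_eq_top_of_simple hna
  have hnc := not_cyclic hna hS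
  obtain ⟨x, hx, hi⟩ := c2 P P.isPGroup'
  have hAS := zpowers_le.2 hx
  have hi2 : (zpowers x).relIndex P = 2 := ((Nat.dvd_prime Nat.prime_two).1 hi).resolve_left
    fun e => hnc (le_antisymm hAS (relIndex_eq_one.1 e) ▸ inferInstance)
  obtain ⟨n, hn⟩ := orderOf_eq_pow_of_mem_isPGroup P.isPGroup' hx
  by_cases hc : IsMulCommutative P
  · have h4 := PGrp.sq_le_card_omegaOne P.isPGroup' hc hnc
    obtain ⟨e, he, he'⟩ := SetLike.not_le_iff_exists.1 fun h : omegaOne 2 P ≤ zpowers x => by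
      have := (card_le_of_le (le_omegaOne h fun a ha =>
        ((PGrp.mem_omegaOne_of_comm hc).1 ha).2)).trans (card_omegaOne_le_of_isCyclic inferInstance)
      omega
    rw [PGrp.mem_omegaOne_of_comm hc] at he
    have h5 : Commute e x := congrArg Subtype.val (hc.is_comm.comm (⟨e, he.1⟩ : P) ⟨x, hx⟩)
    have := Fintype.ofFinite G
    have h6 := card_eq_relIndex_mul hAS
    rw [hi2, Nat.card_zpowers, hn] at h6
    rcases n with _ | _ | k
    · have := h4.trans (card_le_of_le (PGrp.omegaOne_le _))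
      omega
    · exact dih_of_frame hS (cov_of_relIndex hi he.1 he') (by rw [← sq, he.2])
        (by rw [h5.eq, mul_inv_cancel_right, inv_of_inv hn])
    · exact (not_mod hG hS hx (cov_of_relIndex hi he.1 he') (by rw [← sq, he.2])
        (by rw [h5.eq]; simp) (h5.mul_right h5) hn fun _ => h5).elim
  have hz : zpowers (⟨x, hx⟩ : P) = (zpowers x).subgroupOf P := by
    rw [← comap_subtype, show zpowers x = (zpowers (⟨x, hx⟩ : P)).map (P : Subgroup G).subtype from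
      (MonoidHom.map_zpowers (P : Subgroup G).subtype ⟨x, hx⟩).symm,
      comap_map_eq_self_of_injective (subtype_injective _)]
  have hm := mem_zpowers x
  rcases PGrp.isDQSDPair_or_modular_of_index_eq P.isPGroup' hc (u := ⟨x, hx⟩) (n := n)
    (by rw [← hn, ← orderOf_coe]) (hz ▸ hi2) with ⟨-, ⟨y, hy⟩, h2, -, -, hyA, h3⟩ |
      ⟨h2, ⟨e, he⟩, heA, h3, h4⟩
  swap
  · rw [hz, mem_subgroupOf] at heA
    have cov := cov_of_relIndex hi he heA
    have h5 : e * x * e⁻¹ ∈ zpowers x := (cov _ (mul_mem (mul_mem he hx) (inv_mem he))).resolve_right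
      fun h => heA (by
        have h6 : e * e = 1 := by simpa [sq] using congrArg Subtype.val h3
        rw [mul_assoc, ← mul_inv_rev, h6, inv_one, mul_one] at h
        simpa using mul_mem h (inv_mem hm))
    have h6 : e * x ≠ x * e := fun h => hc ⟨⟨fun a b => Subtype.ext (by
      have k : ∀ s ∈ P, s ∈ 𝐂[x] ⊓ 𝐂[e] → (P : Subgroup G) ≤ 𝐂[s] := fun s _ hs a ha =>
        (cov a ha).elim (zpowers_le.2 (U4.mem_cent1_comm.1 hs.1) ·) fun h => by
          simpa using mul_mem (zpowers_le.2 (U4.mem_cent1_comm.1 hs.1) h) (U4.mem_cent1_comm.1 hs.2)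
      exact U4.mem_cent1.1 (k b b.2 ⟨U4.mem_cent1_comm.1 (U4.mem_cent1_comm.1 (k x hx
        ⟨U4.self_mem_cent1 x, U4.mem_cent1.2 h.symm⟩ b.2)), k e he
        ⟨U4.mem_cent1.2 h, U4.self_mem_cent1 e⟩ b.2⟩ a.2))⟩⟩
    rcases n with _ | _ | k
    · exact absurd (by simp [orderOf_eq_one_iff.1 hn]) h6
    · exact absurd (mul_inv_eq_iff_eq_mul.1 (((mem_zpowers_inv hn).1 h5).resolve_left
        (U4.conj_ne_one_iff.2 (ne_one_of_inv hn)))) h6
    · exact (not_mod hG hS hx cov (by simpa [sq] using congrArg Subtype.val h3) h5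
        (show e * _ = _ * e by simpa [sq] using congrArg Subtype.val h4.eq) hn fun e => (h2 ⟨rfl, by omega⟩).elim).elim
  rw [hz, mem_subgroupOf] at hyA
  have cov := cov_of_relIndex hi hy hyA
  obtain ⟨k, rfl⟩ := Nat.exists_eq_add_of_le' h2
  have ht : orderOf (x ^ 2 ^ (k + 1)) = 2 := by
    rw [orderOf_pow_of_dvd (by positivity) (hn ▸ pow_dvd_pow 2 (by omega)), hn, pow_succ,
      Nat.mul_div_cancel_left _ (by positivity)]
  have hsq : ∀ j, x ^ 2 ^ (j + 1) ∈ zpowers (x * x) := fun j =>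
    ⟨(2 ^ j : ℕ), by simp only [zpow_natCast]; rw [← sq, ← pow_mul, ← pow_succ']⟩
  rcases h3 with ⟨h3, h4⟩ | ⟨h3, h4⟩ | ⟨h5, h3, h4⟩ <;>
    replace h3 := congrArg Subtype.val h3 <;> replace h4 := congrArg Subtype.val h4 <;>
    simp only [coe_mul, InvMemClass.coe_inv, SubmonoidClass.coe_pow, OneMemClass.coe_one, sq,
      Nat.add_succ_sub_one] at h3 h4
  · exact dih_of_frame hS cov h4 h3
  · exfalso
    obtain ⟨u, h5, h6, h7, h8⟩ := BSW.exists_other_involution hna ht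
    have h9 : Four u _ := ⟨inv_of_mul_self h5 h6, ht, h8, h7⟩
    obtain ⟨g, -, hg⟩ := hS.exists_conj_le h9.isPGroup_V le_top
    have key : ∀ a ∈ P, orderOf a = 2 → a = x ^ 2 ^ (k + 1) := fun a ha ho => by
      rcases cov a ha with e | e
      · exact (eq_of_inv_of_cyclic inferInstance (pow_mem hm _) ht e
          (mul_self_of_inv ho)).resolve_left (ne_one_of_inv ho)
      · refine absurd ?_ (ne_one_of_inv ht)
        rw [← h4, ← mul_self_of_inv ho, show a * a = a * y⁻¹ * (y * (a * y⁻¹) * y⁻¹) * (y * y) by group,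
          inverts_zpowers h3 _ e, mul_inv_cancel, one_mul]
    have h10 := h9.conj g
    exact h10.ne ((key _ (hg (U4.conj_mem_conj_iff.2 (t_mem_V _ _))) h10.ot).trans
      (key _ (hg (U4.conj_mem_conj_iff.2 (s_mem_V _ _))) h10.os).symm)
  · obtain ⟨j, rfl⟩ : ∃ j, k = j + 1 := ⟨k - 1, by omega⟩
    have h6 : x ^ 2 ^ (j + 1) * x ^ 2 ^ (j + 1) = x ^ 2 ^ (j + 1 + 1) := by
      rw [← sq, ← pow_mul, ← pow_succ]
    have h7 : y * x * y⁻¹ * x = x ^ 2 ^ (j + 1 + 1) := by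
      rw [h3, ← pow_succ, Nat.sub_add_cancel Nat.one_le_two_pow]
    exact (SDh0.false (S := P) (x := x) (y := y) ⟨⟨⟨hS, hx, hy, hyA, cov, hsq j,
      fun e => ne_one_of_inv ht (by rw [← h6, e, one_mul]), h7 ▸ h6 ▸ mem_zpowers _, by simp [h4]⟩,
      ht, h6 ▸ mul_mem (mem_zpowers _) (mem_zpowers _), h4, by
        rw [← _root_.conj_mul, eq_mul_inv_of_mul_eq h7, mul_assoc, ← mul_assoc x⁻¹,
          comm_A (inv_mem hm) (pow_mem hm _), ← mul_assoc, ← mul_assoc, mul_self_of_inv ht, one_mul,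
          mul_inv_rev], oc⟩, h6, h7⟩).elim

end CfsgLib.Hom
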