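import Cfsg.Agent.Lib.Hom.OddB

/-!
# Local lemmas on four-groups under `OW` (adapted from `SW/Local.lean`)
-/

set_option autoImplicit false

namespace CfsgLib.SW

open Subgroup Cfsg CfsgLib.FT CfsgLib.FT.BGN CfsgLib.Blk CfsgLib.GW CfsgLib.Hom
open scoped commutatorElement

variable {G : Type*} [Group G] [Finite G]

omit [Finite G] in
theorem mul_mem_cent_of_inv {E : Subgroup G} {a b : G} (e : ∀ v ∈ E, a * v * a⁻¹ = v⁻¹)
    (e' : ∀ v ∈ E, b * v * b⁻¹ = v⁻¹) : a * b ∈ 𝐂(E) := U4.mem_cent.2 fun w hw => by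
  rw [eq_comm, ← mul_inv_eq_iff_eq_mul, show a * b * w * (a * b)⁻¹ = a * (b * w * b⁻¹) * a⁻¹ by
    group, e' w hw, e _ (inv_mem hw), inv_inv]

theorem norm_le_norm_big (h : OW G) {r : ℕ} (hr : r.Prime) (h5 : 5 ≤ r) {R : Subgroup G}
    (hR : IsPGroup r R) {ρ : G} (hρ : ρ ∈ R) (ho : orderOf ρ = r) : 𝐍(R) ≤ 𝐍(zpowers ρ) := by
  have h2 : r ≠ 2 := by omega
  obtain ⟨E, hE, -, h3, h4⟩ := (h.c1 r hr h2).exists_omega hr hR
  intro g hg
  obtain ⟨k, hk⟩ := scalar_of_big hr hE (h.na r hr h2 E hE) (h.c1 r hr h2 E hE) (Or.inl h5) (h3 hg)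
  refine mem_normalizer_of_conj_mem fun x hx => ?_
  rw [hk x (zpowers_le.2 ((h4 ρ).2 ⟨hρ, ho ▸ pow_orderOf_eq_one ρ⟩) hx)]
  exact pow_mem hx k

omit [Finite G] in
theorem Four.le_of_two {a b c d : G} (h4 : Four a b) (hc : c ∈ V a b) (hd : d ∈ V a b) (c1 : c ≠ 1)
    (d1 : d ≠ 1) (e : c ≠ d) {H : Subgroup G} (h1 : c ∈ H) (h2 : d ∈ H) : V a b ≤ H := by
  have k1 : a ∈ H → a * b ∈ H → V a b ≤ H := fun h h' => V_le h (by simpa using mul_mem (inv_mem h) h')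
  have k2 : b ∈ H → a * b ∈ H → V a b ≤ H := fun h h' => V_le (by simpa using mul_mem h' (inv_mem h)) h
  rcases h4.mem_V.1 hc with rfl | rfl | rfl | rfl <;> rcases h4.mem_V.1 hd with rfl | rfl | rfl | rfl
  all_goals first | contradiction | exact V_le h1 h2 | exact V_le h2 h1 | exact k1 h1 h2 |
    exact k1 h2 h1 | exact k2 h1 h2 | exact k2 h2 h1

theorem Four.cent_of_fix {a b c u : G} (h4 : Four a b) (hu : u ∈ 𝐍(V a b)) (ho : Odd (orderOf u))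
    (hc : c ∈ V a b) (c1 : c ≠ 1) (e : u * c * u⁻¹ = c) : u ∈ 𝐂(V a b) := by
  have key : ∀ {a b : G}, Four a b → u ∈ 𝐍(V a b) → u * a * u⁻¹ = a → u ∈ 𝐂(V a b) :=
    fun {a b} h4 hu e => by
      rcases Four.conj_cases h4 hu e with e' | e'
      · exact mem_cent_V e e'
      refine zpowers_le.2 (mem_cent_V ?_ ?_) (mem_zpowers_pow_iff.2
        (show Nat.Coprime 2 (orderOf u) from Nat.coprime_two_left.2 ho))
      · rw [sq, show u * u * a * (u * u)⁻¹ = u * (u * a * u⁻¹) * u⁻¹ by group, e, e]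
      · rw [sq, show u * u * b * (u * u)⁻¹ = u * (u * b * u⁻¹) * u⁻¹ by group, e',
          ← _root_.conj_mul, e, e', ← mul_assoc, h4.tt, one_mul]
  rcases h4.mem_V.1 hc with rfl | rfl | rfl | rfl
  · exact absurd rfl c1
  · exact key h4 hu e
  · rw [V_comm] at hu ⊢; exact key h4.symm hu e
  · rw [← h4.V_mul, V_comm] at hu ⊢; exact key h4.mul.symm hu e

theorem Fr.sq_cent0 {L S : Subgroup G} {x y z : G} (h : Fr L S x y z) (oc : OW G) (y2 : y * y = 1)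
    {X : Subgroup G} (ho : Odd (Nat.card X)) (hn : S ≤ 𝐍(X)) : zpowers (x * x) ≤ 𝐂(X) := by
  have h1 := h.inv' (inv_mem (mem_zpowers x))
  have hx := mem_zpowers x
  have h2 := h.yconj (inv_mem hx)
  have h3 : x * x ∈ zpowers (x * (y * x⁻¹ * y⁻¹)) := by
    refine (mem_zpowers_or h.pA (mul_mem hx h2) (mul_mem hx hx)).resolve_right fun e => ?_
    obtain ⟨k, hk⟩ := h.exists_pow (mul_mem h.xS h.xS)
    refine notMem_zpowers_sq hk (fun e => h.xxA0 (e ▸ one_mem _)) ?_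
    have h4 : zpowers (z * z) ≤ zpowers (x * x * (x * x)) := zpowers_le.2 (by
      obtain ⟨i, rfl⟩ := h.zx
      exact ⟨i, (Commute.refl (x * x)).mul_zpow i⟩)
    have := mul_mem e (inv_mem (h4 h1))
    rwa [comm_A hx h2, comm_A h2 (inv_mem hx), comm_A h2 hx,
      show x * (y * x⁻¹ * y⁻¹) * (x⁻¹ * (y * x⁻¹ * y⁻¹))⁻¹ = x * x by group] at this
  refine zpowers_le.2 (oc.cent_of_ea ho h.syl.isPGroup hn (mul_mem h.xS h.xS)
    fun r hr h2 E _ hE hS => zpowers_le.2 ?_ h3)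
  have := inv_mem (comm_mem_cent (hS h.xS) (oc.pm hr h2 hE (hS h.yS) (y2 ▸ one_mem _)))
  rwa [show (y * x * y⁻¹ * x⁻¹)⁻¹ = x * (y * x⁻¹ * y⁻¹) by group] at this

theorem Fr.eq_one0 [IsSimpleGroup G] {S : Subgroup G} {x y z w : G} (h : Fr ⊤ S x y z)
    (oc : OW G) (hw : w ∈ 𝐂(S)) (ho : Odd (orderOf w)) : w = 1 := by
  classical
  by_contra h1
  have hex : ∃ r : ℕ, r.Prime ∧ r ≠ 2 ∧ r ∣ Nat.card 𝐂(S) := by
    obtain ⟨r, hr, hd⟩ := U4.exists_prime_dvd_orderOf h1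
    exact ⟨r, hr, fun e => by rw [e] at hd; exact absurd (ho.of_dvd_nat hd) (by decide),
      hd.trans (Subgroup.orderOf_dvd_natCard _ hw)⟩
  obtain ⟨hr, hr2, hd⟩ := Nat.find_spec hex
  set r := Nat.find hex
  have := Fact.mk hr
  obtain ⟨ρ, hρ, hρo⟩ := exists_orderOf hr hd
  have h2 := oc.not_dvd hr hr2 Nat.prime_two hr2.symm hρo (mem_top ρ) (h.syl.mono
    (le_inf le_top ((le_centralizer_iff.1 (zpowers_le.2 hρ)).trans (U4.cent_zpowers ρ).le)) le_top)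
  obtain ⟨R, hR⟩ := IsSylowIn.exists_in (p := r) (𝐂[ρ] ⊓ 𝐍(S))
  have hR' : IsSylowIn r R ⊤ := ⟨le_top, hR.isPGroup, by
    rw [← relIndex_mul_relIndex _ _ _ hR.le le_top, hr.dvd_mul, not_or]
    exact ⟨hR.not_dvd, h2⟩⟩
  have hRS : S ≤ 𝐂(R) := le_centralizer_iff.1 fun g hg => h.mem_cent_of_W
    (h.nilp g (h.norm_le ⟨mem_top g, (hR.le hg).2⟩)
      (odd_orderOf_of_mem (odd_card_of_isPGroup hr hr2 hR.isPGroup) hg)) (hR.le hg).2
  obtain ⟨E, hE, -, hN, hm⟩ := (oc.c1 r hr hr2).exists_omega hr hR.isPGroup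
  have hCE : 𝐂(R) ≤ 𝐂(E) := centralizer_le fun a ha => ((hm a).1 ha).1
  refine H4.not_hnpc_of_simple Nat.prime_two hr2.symm (hd.trans (card_subgroup_dvd_card _))
    (Dvd.dvd.trans (h.card_S ▸ dvd_mul_right 2 _) (card_subgroup_dvd_card S))
    ((oc.c1 r hr hr2).hnpc hr hr2 hR' fun n hn a ha e => ?_)
  suffices n ∈ 𝐂(E) by rw [← U4.mem_cent.1 this a ((hm a).2 ⟨ha, e⟩), mul_inv_cancel_right]
  obtain ⟨k, hk, e⟩ := (h.syl.mono hRS le_top).frattini_elem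
    (H5.normalizer_le_normalizer_centralizer' R hn)
  obtain ⟨w, hw, s, hs, e'⟩ := h.compl.2.2.2 _ (h.norm_le ⟨mem_top _, e⟩)
  have e2 : w = k * n * s⁻¹ := by rw [e', mul_inv_cancel_right]
  have hwS := h.mem_cent_of_W hw (e2 ▸ mul_mem e (inv_mem (le_normalizer hs)))
  have hwR : w ∈ 𝐍(R) := e2 ▸ mul_mem (mul_mem (U4.cent_le_norm R hk) hn)
    (inv_mem (U4.cent_le_norm R (hRS hs)))
  have hwC : w ∈ 𝐂(E) := mem_of_forall_primePow_mem fun v hv q j hq e => by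
    rcases j with _ | j
    · rw [orderOf_eq_one_iff.1 e]; exact one_mem _
    have hd : q ∣ orderOf w := (e ▸ dvd_pow_self q j.succ_ne_zero).trans
      (orderOf_dvd_of_mem_zpowers hv)
    exact oc.cent_of_lt hr hr2 hE (hN (zpowers_le.2 hwR hv)) hq (Nat.find_min' hex ⟨hq, fun e => by
      rw [e] at hd; exact absurd ((odd_of_mem_Od hw).of_dvd_nat hd) (by decide),
      hd.trans (Subgroup.orderOf_dvd_natCard _ hwS)⟩) e
  rw [show n = k⁻¹ * (w * s) by rw [← e', inv_mul_cancel_left]]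
  exact mul_mem (inv_mem (hCE hk)) (mul_mem hwC (hCE (hRS hs)))

/-- Local hypotheses on four-groups. -/
structure LV0 (G : Type*) [Group G] : Prop where
  oc : OW G
  eight : ∀ a : G, orderOf a = 2 → 8 ∣ Nat.card 𝐂[a]
  syl : ∀ a b : G, Four a b → IsSylowIn 2 (V a b) 𝐂(V a b)
  one : ∀ a b : G, orderOf a = 2 → orderOf b = 2 → ∃ g, g * a * g⁻¹ = b

namespace LV0

variable (h : LV0 G) {a b ρ : G}
include h

theorem exists_swap (h4 : Four a b) : ∃ m ∈ 𝐍(V a b), m * a * m⁻¹ = a ∧ m * b * m⁻¹ = a * b := by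
  obtain ⟨T, h1, hT⟩ := IsSylowIn.exists_ge h4.isPGroup_V h4.V_le_cent1
  have h2 : V a b < T := lt_of_le_of_ne h1 fun e => by
    have h3 := h.eight a h4.ot
    have := Fintype.ofFinite G
    rw [card_eq_relIndex_mul hT.le, ← e, h4.card_V] at h3
    exact hT.not_dvd (e ▸ Nat.dvd_of_mul_dvd_mul_right (by norm_num : 0 < 4) h3)
  obtain ⟨m, hm, hm'⟩ := SetLike.exists_of_lt (lt_inf_normalizer_of_isPGroup hT.isPGroup h2)
  have h3 := U4.conj_eq_of_mem_cent1 (hT.le hm.1)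
  refine ⟨m, hm.2, h3, (Four.conj_cases h4 hm.2 h3).resolve_left fun e => hm' ?_⟩
  obtain ⟨k, hk⟩ := orderOf_eq_pow_of_mem_isPGroup hT.isPGroup hm.1
  exact mem_of_norm_sylow (h.syl a b h4) (mem_cent_V h3 e) hm.2 hk

theorem relIndex_six (h4 : Four a b) : (𝐂(V a b)).relIndex 𝐍(V a b) = 6 := by
  obtain ⟨m, hm, e1, e2⟩ := h.exists_swap h4
  obtain ⟨n, hn, e3, e4⟩ := h.exists_swap h4.symm
  rw [V_comm] at hn
  rw [← h4.comm] at e4
  rw [cent_V, inf_comm, ← relIndex_inf_mul_relIndex, ← Frob.ncard_conj_subgroup,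
    ← Frob.ncard_conj_subgroup, show {y | ∃ x ∈ 𝐂[a] ⊓ 𝐍(V a b), x * b * x⁻¹ = y} = {b, a * b} from ?_,
    show {y | ∃ x ∈ 𝐍(V a b), x * a * x⁻¹ = y} = {a, b, a * b} from ?_,
    Set.ncard_pair (by simpa using h4.t1), Set.ncard_insert_of_notMem (by
      simpa using ⟨h4.ne, h4.s1⟩), Set.ncard_pair (by simpa using h4.t1)]
  · ext y
    constructor
    · rintro ⟨g, hg, rfl⟩
      rcases h4.mem_V.1 (conj_mem_of_mem_normalizer hg (t_mem_V a b)) with e | e | e | e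
      · exact absurd e (U4.conj_ne_one_iff.2 h4.t1)
      all_goals simp [e]
    · rintro (rfl | rfl | rfl)
      · exact ⟨1, one_mem _, by simp⟩
      · refine ⟨m * n, mul_mem hm hn, ?_⟩
        rw [show m * n * a * (m * n)⁻¹ = m * (n * a * n⁻¹) * m⁻¹ by group, e4, ← _root_.conj_mul, e1,
          e2, ← mul_assoc, h4.tt, one_mul]
      · exact ⟨n, hn, e4⟩
  · ext y
    constructor
    · rintro ⟨g, hg, rfl⟩
      exact Four.conj_cases h4 hg.2 (U4.conj_eq_of_mem_cent1 hg.1)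
    · rintro (rfl | rfl)
      · exact ⟨1, one_mem _, by simp⟩
      · exact ⟨m, ⟨U4.mem_cent1_of_conj_eq e1, hm⟩, e2⟩

theorem index_eq (ha : orderOf a = 2) (hb : orderOf b = 2) : (𝐂[a]).index = (𝐂[b]).index := by
  obtain ⟨g, rfl⟩ := h.one a b ha hb
  rw [U4.cent1_conj, index_conj]

/-- The centralizer of an involution is nearly a Hall subgroup. -/
theorem near_hall {r : ℕ} (hr : r.Prime) (hr2 : r ≠ 2) (hρ : orderOf ρ = r) (ha : orderOf a = 2)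
    (hc : ρ ∈ 𝐂[a]) (hd : r ∣ (𝐂[a]).index) : r = 3 ∧ ¬ 9 ∣ (𝐂[a]).index ∧
      ∃ b, Four a b ∧ ρ ∈ 𝐂(V a b) ∧ IsSylowIn 2 (V a b) 𝐂[ρ] := by
  obtain ⟨T, h1, hT⟩ := IsSylowIn.exists_ge (isPGroup_zpowers_inv ha)
    (zpowers_le.2 (show a ∈ ⊤ ⊓ 𝐂[ρ] from ⟨mem_top a, U4.mem_cent1_comm.1 hc⟩))
  have h2 := h.oc.not_dvd hr hr2 Nat.prime_two hr2.symm hρ (mem_top ρ) hT
  rw [relIndex_top_right] at h2
  rw [top_inf_eq] at hT
  obtain ⟨Z, hZ, hZ2⟩ := exists_center_prime hT.isPGroup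
    (U4.ne_bot_of_mem (h1 (mem_zpowers a)) (ne_one_of_inv ha))
  obtain ⟨u, hu, hu2⟩ := exists_orderOf Nat.prime_two hZ2.symm.dvd
  have hu := hZ hu
  obtain ⟨n, hn, hn'⟩ := SetLike.not_le_iff_exists.1 fun e : 𝐂[ρ] ⊓ 𝐍(T) ≤ 𝐂[u] =>
    h2 (hd.trans (h.index_eq ha hu2 ▸ index_dvd_of_le e))
  have hv : n * u * n⁻¹ ∈ T ⊓ 𝐂(T) := ⟨conj_mem_of_mem_normalizer hn.2 hu.1,
    conj_mem_of_mem_normalizer (H5.normalizer_le_normalizer_centralizer' T hn.2) hu.2⟩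
  have h4 : Four u (n * u * n⁻¹) := ⟨hu2, by rw [U4.orderOf_conj, hu2],
    U4.mem_cent.1 hv.2 u hu.1, fun e => hn' (U4.mem_cent1_of_conj_eq e.symm)⟩
  have e : T = V u (n * u * n⁻¹) := (h.syl _ _ h4).eq_of_le hT.isPGroup (V_le hu.1 hv.1)
    (le_centralizer_iff.1 (V_le hu.2 hv.2))
  obtain ⟨b, h5, e'⟩ : ∃ b, Four a b ∧ V a b = T := by
    have h5 := h1 (mem_zpowers a)
    rw [e] at h5 ⊢
    rcases h4.mem_V.1 h5 with rfl | rfl | rfl | rfl
    · simp at ha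
    · exact ⟨_, h4, rfl⟩
    · exact ⟨_, h4.symm, V_comm _ _⟩
    · exact ⟨_, h4.mul.symm, by rw [V_comm, h4.V_mul]⟩
  subst e'
  have h6 : (𝐂[a]).index ∣ 6 * (𝐍(V a b)).index := by
    rw [← h.relIndex_six h5, relIndex_mul_index (U4.cent_le_norm _)]
    exact index_dvd_of_le (U4.cent_le_cent1 (t_mem_V a b))
  have h7 : ¬ r ∣ (𝐍(V a b)).index := fun e => h2 (e.trans (index_dvd_of_le inf_le_right))
  have h8 : r = 3 := by
    rcases (hr.dvd_mul.1 (show r ∣ 2 * 3 from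
      (hr.dvd_mul.1 (hd.trans h6)).resolve_right h7)) with e | e
    · exact absurd ((Nat.prime_dvd_prime_iff_eq hr Nat.prime_two).1 e) hr2
    · exact (Nat.prime_dvd_prime_iff_eq hr Nat.prime_three).1 e
  refine ⟨h8, fun e => h7 ?_, b, h5, le_centralizer_iff.1 (hT.le.trans (U4.cent_zpowers ρ).ge)
    (mem_zpowers ρ), hT⟩
  have := e.trans h6
  subst h8
  omega

/-- An element of odd prime order in `C(V)` centralizes a `3`-element acting on `V`. -/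
theorem exists_three (h4 : Four a b) {r : ℕ} (hr : r.Prime) (hr5 : 5 ≤ r) (hρ : orderOf ρ = r)
    (hc : ρ ∈ 𝐂(V a b)) : ∃ u ∈ 𝐂[ρ], u ∈ 𝐍(V a b) ∧ (∃ k, orderOf u = 3 ^ k) ∧
      u * a * u⁻¹ = a * b ∧ u * b * u⁻¹ = a := by
  have := Fact.mk hr
  obtain ⟨R, h1, hR⟩ := IsSylowIn.exists_ge (isPGroup_zpowers_iff.2 ⟨1, by rw [hρ, pow_one]⟩)
    (zpowers_le.2 hc)
  have key : ∀ m ∈ 𝐍(V a b), ∃ n ∈ 𝐍(V a b), n ∈ 𝐍(zpowers ρ) ∧
      ∀ v ∈ V a b, n * v * n⁻¹ = m * v * m⁻¹ := fun m hm => by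
    obtain ⟨k, hk, e⟩ := hR.frattini_elem (H5.normalizer_le_normalizer_centralizer' _ hm)
    refine ⟨k * m, mul_mem (U4.cent_le_norm _ hk) hm,
      norm_le_norm_big h.oc hr hr5 hR.isPGroup (h1 (mem_zpowers ρ)) hρ e, fun v hv => ?_⟩
    rw [show k * m * v * (k * m)⁻¹ = k * (m * v * m⁻¹) * k⁻¹ by group,
      ← U4.mem_cent.1 hk _ (conj_mem_of_mem_normalizer hm hv), mul_inv_cancel_right]
  obtain ⟨m0, hm0, e1, e2⟩ := h.exists_swap h4
  obtain ⟨n0, hn0, e3, e4⟩ := h.exists_swap h4.symm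
  rw [V_comm] at hn0
  rw [← h4.comm] at e4
  obtain ⟨m, hm, hm', em⟩ := key m0 hm0
  obtain ⟨n, hn, hn', en⟩ := key n0 hn0
  rw [← em _ (t_mem_V a b)] at e1
  rw [← em _ (s_mem_V a b)] at e2
  rw [← en _ (s_mem_V a b)] at e3
  rw [← en _ (t_mem_V a b)] at e4
  have e5 : m * (a * b) * m⁻¹ = b := by
    rw [← _root_.conj_mul, e1, e2, ← mul_assoc, h4.tt, one_mul]
  have e6 : n * (a * b) * n⁻¹ = a := by
    rw [← _root_.conj_mul, e3, e4, mul_assoc, h4.ss, mul_one]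
  have inv : ∀ {g u v : G}, g * u * g⁻¹ = v → g⁻¹ * v * g = u := fun e => by rw [← e]; group
  have hg : ∀ v, ⁅m, n⁆ * v * ⁅m, n⁆⁻¹ = m * (n * (m⁻¹ * (n⁻¹ * v * n) * m) * n⁻¹) * m⁻¹ :=
    fun v => by rw [commutatorElement_def]; group
  have g1 : ⁅m, n⁆ * a * ⁅m, n⁆⁻¹ = a * b := by rw [hg, inv e6, inv e2, e3, e2]
  have g2 : ⁅m, n⁆ * b * ⁅m, n⁆⁻¹ = a := by rw [hg, inv e3, inv e5, e6, e1]
  have g0 : ⁅m, n⁆ ∈ 𝐂[ρ] := U4.cent_zpowers ρ ▸ Frob.commutator_mem_centralizer_of_isCyclic hm' hn'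
  have g3 : ⁅m, n⁆ ∈ 𝐍(V a b) := mul_mem (mul_mem (mul_mem hm hn) (inv_mem hm)) (inv_mem hn)
  generalize ⁅m, n⁆ = g at g0 g1 g2 g3
  have g4 : g * (a * b) * g⁻¹ = b := by
    rw [← _root_.conj_mul, g1, g2, h4.comm, mul_assoc, h4.tt, mul_one]
  have g5 : g ^ 3 ∈ 𝐂(V a b) := mem_cent_V (by
    rw [show g ^ 3 * a * (g ^ 3)⁻¹ = g * (g * (g * a * g⁻¹) * g⁻¹) * g⁻¹ by simp [pow_succ, mul_assoc], g1, g4, g2]) (by
    rw [show g ^ 3 * b * (g ^ 3)⁻¹ = g * (g * (g * b * g⁻¹) * g⁻¹) * g⁻¹ by simp [pow_succ, mul_assoc], g2, g1, g4])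
  obtain ⟨u, hu, v, hv, e, -, hk, ho⟩ := exists_p_part Nat.prime_three g
  have hvC : v ∈ 𝐂(V a b) := by
    obtain ⟨i, rfl⟩ := hv
    refine zpowers_le.2 ?_ (mem_zpowers_pow_iff.2 ho.symm)
    simp only
    rw [← zpow_natCast, ← zpow_mul, mul_comm, zpow_mul, zpow_natCast]
    exact zpow_mem g5 i
  have k2 : ∀ w ∈ V a b, u * w * u⁻¹ = g * w * g⁻¹ := fun w hw => by
    rw [e, show u * v * w * (u * v)⁻¹ = u * (v * w * v⁻¹) * u⁻¹ by group,
      ← U4.mem_cent.1 hvC w hw, mul_inv_cancel_right]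
  exact ⟨u, zpowers_le.2 g0 hu, zpowers_le.2 g3 hu, hk, (k2 _ (t_mem_V a b)).trans g1,
    (k2 _ (s_mem_V a b)).trans g2⟩

theorem norm_le_norm_V (h4 : Four a b) (hρ : orderOf ρ = 3) (hT : IsSylowIn 2 (V a b) 𝐂[ρ]) :
    𝐍(zpowers ρ) ≤ 𝐍(V a b) := by
  have hc : ρ ∈ 𝐂(V a b) := le_centralizer_iff.1 (hT.le.trans (U4.cent_zpowers ρ).ge) (mem_zpowers ρ)
  obtain ⟨-, D, hD, hn, h1, hm⟩ := h.oc.exists_compl_cent Nat.prime_three (by norm_num) hρ (mem_top ρ)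
  rw [top_inf_eq] at hD hn hm
  have h2 : ∀ Q ≤ 𝐂[ρ], IsPGroup 2 Q → Q ≤ D := fun Q hQ hp g hg => hm g (hQ hg) (by
    obtain ⟨k, hk⟩ := orderOf_eq_pow_of_mem_isPGroup hp hg
    rw [hk]
    exact Nat.Coprime.pow_left k (by norm_num))
  have hTD := hT.mono (h2 _ hT.le hT.isPGroup) hD
  have h3 : Nilp2 D := nilp2_of_cent hTD fun P hP g hg hgn ho => by
    rcases hP.eq_or_lt with rfl | hlt
    · refine zpowers_le.2 ?_ (mem_zpowers_pow_iff.2 (show Nat.Coprime 6 (orderOf g) from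
        Nat.Coprime.mul_left (Nat.coprime_two_left.2 ho)
          (h1.coprime_dvd_left (Subgroup.orderOf_dvd_natCard _ hg)).symm))
      have := normal_subgroupOf_of_le_normalizer (H5.normalizer_le_normalizer_centralizer' (V a b))
      exact h.relIndex_six h4 ▸ pow_index_mem (H := (𝐂(V a b)).subgroupOf 𝐍(V a b)) ⟨g, hgn⟩
    · refine mem_cent_of_cyclic_two (h4.isPGroup_V.to_le hP) ?_ hgn ho
      have h5 := card_dvd_of_le hP
      have h6 : Nat.card P ≠ 4 := fun e => hlt.ne (eq_of_le_of_card_ge hP (by rw [e, h4.card_V]))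
      rw [h4.card_V] at h5
      have h7 : Nat.card P ∣ 2 := by
        have := Nat.le_of_dvd (by norm_num) h5
        interval_cases Nat.card P <;> omega
      exact isCyclic_of_card_dvd_prime h7
  have := Fact.mk Nat.prime_three
  obtain ⟨P, hP⟩ := IsSylowIn.exists_in (p := 3) (𝐂[ρ] ⊓ 𝐍(V a b))
  obtain ⟨u, hu, huC⟩ := SetLike.not_le_iff_exists.1 fun e : P ≤ 𝐂(V a b) => by
    have h5 := h.oc.not_dvd Nat.prime_three (by norm_num) Nat.prime_two (by norm_num) hρ (mem_top ρ)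
      (T := V a b) (by rwa [top_inf_eq])
    have h6 := index_dvd_of_le e
    rw [← relIndex_mul_index (U4.cent_le_norm _), h.relIndex_six h4, ← relIndex_mul_index hP.le] at h6
    rw [relIndex_top_right] at h5
    exact (Nat.prime_three.dvd_mul.1 (Dvd.dvd.trans ⟨_, mul_assoc 3 2 _⟩ h6)).elim hP.not_dvd h5
  obtain ⟨k, hk⟩ := orderOf_eq_pow_of_mem_isPGroup hP.isPGroup hu
  have hu' := zpowers_le.2 (hP.le hu).2
  have h5 : V a b ⊔ zpowers u ≤ 𝐍(Od D) := sup_le (hTD.le.trans (le_norm_Od D))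
    (zpowers_le.2 (norm_le_norm_Od D (hn (hP.le hu).1)))
  have h6 : (Nat.card ↥(V a b ⊔ zpowers u)).Coprime (Nat.card (Od D)) := by
    rw [sup_comm]
    refine Nat.Coprime.coprime_dvd_left (card_sup_dvd_mul hu') (Nat.Coprime.mul_left ?_ ?_)
    · rw [Nat.card_zpowers, hk]
      exact (h1.coprime_dvd_left (card_dvd_of_le (Od_le D))).symm.pow_left k
    · rw [h4.card_V]
      exact (Nat.coprime_two_left.2 (odd_Od D)).pow_left 2
  have h7 : V a b ≤ 𝐂(Od D) := fun v hv => h.oc.cent_of_ea' (odd_Od D) h6 h5 (mem_sup_left hv)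
    fun r hr r2 E _ hE hN => by
      obtain ⟨c, hc, c1, hcE⟩ : ∃ c ∈ V a b, c ≠ 1 ∧ c ∈ 𝐂(E) := by
        rcases h.oc.pm hr r2 hE (hN (mem_sup_left (t_mem_V a b))) (h4.tt ▸ one_mem _) with e | e
        · exact ⟨a, t_mem_V a b, h4.t1, e⟩
        rcases h.oc.pm hr r2 hE (hN (mem_sup_left (s_mem_V a b))) (h4.ss ▸ one_mem _) with e' | e'
        · exact ⟨b, s_mem_V a b, h4.s1, e'⟩
        exact ⟨a * b, mul_mem (t_mem_V a b) (s_mem_V a b), h4.mul.s1, mul_mem_cent_of_inv e e'⟩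
      exact Four.le_of_two h4 hc (conj_mem_of_mem_normalizer (hP.le hu).2 hc) c1
        (U4.conj_ne_one_iff.2 c1) (fun e => huC (Four.cent_of_fix h4 (hP.le hu).2
          (hk ▸ Odd.pow (by decide)) hc c1 e.symm)) hcE (conj_mem_of_mem_normalizer
            (H5.normalizer_le_normalizer_centralizer' E (hN (mem_sup_right (mem_zpowers u)))) hcE) hv
  have h8 : D ≤ 𝐂(V a b) := h3.sup_sylow hTD ▸ sup_le (le_centralizer_iff.1 h7) h4.V_le_cent
  intro n hn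
  refine mem_normalizer_of_map_conj_eq (eq_of_le_of_card_ge ?_ (by rw [card_map_conj]))
  have h9 : n •ᶜ V a b ≤ 𝐂(V a b) := (h2 _ (by
    rintro _ ⟨v, hv, rfl⟩
    rw [← U4.cent_zpowers]
    exact conj_mem_of_mem_normalizer (H5.normalizer_le_normalizer_centralizer' _ hn)
      (U4.cent_zpowers ρ ▸ hT.le hv)) (h4.isPGroup_V.map _)).trans h8
  intro v hv
  obtain ⟨k, hk⟩ := orderOf_eq_pow_of_mem_isPGroup (h4.isPGroup_V.map _) hv
  exact mem_of_norm_sylow (h.syl a b h4) (h9 hv) (U4.cent_le_norm _ (h9 hv)) hk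

theorem index_norm_V (h4 : Four a b) (hρ : orderOf ρ = 3) (hT : IsSylowIn 2 (V a b) 𝐂[ρ])
    (c12 : Nat.card 𝐂(V a b) = 12) (h9 : ¬ 9 ∣ Nat.card 𝐂[a]) (h32 : ¬ 32 ∣ Nat.card G) :
    (𝐍(V a b)).index % 3 ≠ 2 := by
  have p3 := Nat.prime_three
  have := Fact.mk p3
  have := Fintype.ofFinite G
  intro hi
  have hC : 𝐂[ρ] ≤ 𝐍(V a b) :=
    (U4.cent_zpowers ρ ▸ U4.cent_le_norm _ : 𝐂[ρ] ≤ _).trans (h.norm_le_norm_V h4 hρ hT)
  have c72 : Nat.card 𝐍(V a b) = 72 := by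
    rw [card_eq_relIndex_mul (U4.cent_le_norm _), h.relIndex_six h4, c12]
  obtain ⟨R, hR⟩ := exists_sylow_mem_of_orderOf (p := 3) (k := 1) hρ
  have hS := IsSylowIn.sylow_top R
  have c1 := h.oc.c1 3 p3 (by norm_num)
  have ρ3 : ρ ^ 3 = 1 := hρ ▸ pow_orderOf_eq_one ρ
  have hRV := (c1.le_cent p3 R.isPGroup' hR ρ3).trans hC
  have c8 := card_eq_relIndex_mul hRV
  have c9 : Nat.card R = 9 := by
    obtain ⟨k, hk⟩ := IsPGroup.iff_card.1 R.isPGroup'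
    have := (hS.mono hRV le_top).not_dvd
    rw [c72, hk] at c8
    rcases k with _ | _ | _ | k
    any_goals omega
    rw [pow_add, pow_add, pow_add] at c8
    generalize 3 ^ k = j at c8
    have : 27 ∣ 72 := c8 ▸ ⟨_ * j, by ring⟩
    omega
  obtain ⟨E, hE, hEC, hN, hm⟩ := c1.exists_omega p3 R.isPGroup'
  have hρE := (hm ρ).2 ⟨hR, ρ3⟩
  obtain ⟨Q, hQ⟩ := IsSylowIn.exists_in (p := 2) 𝐍((R : Subgroup G))
  have hF : ∀ g ∈ Q, g ∈ 𝐂(E) → g = 1 := fun g hg hc => by_contra fun g1 => by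
    obtain ⟨k, hk⟩ := orderOf_eq_pow_of_mem_isPGroup hQ.isPGroup hg
    have h1 := cent_of_omega p3 (by norm_num) R.isPGroup' (hQ.le hg)
      (hk ▸ Nat.Coprime.pow_left k (by norm_num)) fun v hv e => by
        rw [← U4.mem_cent.1 hc v ((hm v).2 ⟨hv, e⟩), mul_inv_cancel_right]
    obtain ⟨u, hu, ho⟩ := exists_orderOf Nat.prime_two (H := zpowers g) (by
      rw [Nat.card_zpowers, hk]
      exact dvd_pow_self 2 fun e => g1 (orderOf_eq_one_iff.1 (by rw [hk, e, pow_zero])))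
    obtain ⟨c, rfl⟩ := h.one a u h4.ot ho
    have h2 := card_dvd_of_le ((le_centralizer_iff.1 (zpowers_le.2 h1)).trans (U4.cent_le_cent1 hu))
    rw [U4.cent1_conj, card_map_conj, c9] at h2
    exact h9 h2
  have hU : ∀ c ∈ Q, ∀ d ∈ Q, orderOf c = 2 → orderOf d = 2 → c = d := fun c hc d hd oc od => by
    have key : ∀ c ∈ Q, orderOf c = 2 → ∀ v ∈ E, c * v * c⁻¹ = v⁻¹ := fun c hc oc =>
      (h.oc.pm p3 (by norm_num) hE (hN (hQ.le hc)) (mul_self_of_inv oc ▸ one_mem _)).resolve_left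
        fun e => ne_one_of_inv oc (hF c hc e)
    rw [eq_inv_of_mul_eq_one_left (hF _ (mul_mem hc hd)
      (mul_mem_cent_of_inv (key c hc oc) (key d hd od))), inv_of_inv od]
  have cN := card_eq_relIndex_mul (le_normalizer (H := (R : Subgroup G)))
  have hk := Nat.eq_prime_pow_of_unique_prime_dvd (p := 2)
    (n := (R : Subgroup G).relIndex 𝐍((R : Subgroup G))) index_ne_zero_of_finite fun {l} hl hd => by
      by_contra l2
      have l3 : l ≠ 3 := fun e => (hS.mono le_normalizer le_top).not_dvd (e ▸ hd)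
      obtain ⟨v, hv, ho⟩ := exists_orderOf hl (hd.trans (relIndex_dvd_card _ _))
      have h1 := Subgroup.orderOf_dvd_natCard _ (hC (U4.cent_le_cent1 hρE (h.oc.cent_of_lt p3
        (by norm_num) hE (hN hv) hl (by have := hl.two_le; omega) (j := 1) (by rw [ho, pow_one]))))
      rw [c72, ho, show 72 = 2 ^ 3 * 3 ^ 2 from rfl, hl.dvd_mul] at h1
      exact h1.elim (fun e => l2 ((Nat.prime_dvd_prime_iff_eq hl Nat.prime_two).1
        (hl.dvd_of_dvd_pow e))) fun e => l3 ((Nat.prime_dvd_prime_iff_eq hl p3).1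
          (hl.dvd_of_dvd_pow e))
  generalize (Nat.primeFactorsList _).length = k at hk
  have hs := hQ.sup_eq_of_relIndex_eq_pow le_normalizer hk
  have cQ : Nat.card Q = 2 ^ k := by
    rw [hQ.card_eq_ordProj, cN, hk, c9, Nat.factorization_mul (by positivity) (by norm_num)]
    simp [Nat.factorization_eq_zero_of_not_dvd (show ¬ 2 ∣ 9 by norm_num), Nat.prime_two.factorization]
  have n1 := H9.relIndex_normalizer_modEq_one ⊤ R (le_top.trans le_normalizer)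
  have n2 := H9.relIndex_normalizer_modEq_one 𝐍(V a b) R (hRV.trans le_normalizer)
  have g1 := index_mul_card 𝐍((R : Subgroup G))
  have g2 := index_mul_card 𝐍(V a b)
  have g3 := index_mul_card Q
  rw [relIndex_top_right] at n1
  rw [Nat.ModEq] at n1 n2
  rw [cN, hk, c9] at g1
  rw [c72] at g2
  rw [cQ] at g3
  rcases k with _ | _ | _ | _ | _ | k
  · rw [le_antisymm (relIndex_eq_one.1 hk) le_normalizer] at n2
    rw [c72, c9] at c8
    omega
  · omega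
  · have hc := IsPGroup.isMulCommutative_of_card_eq_prime_sq cQ
    have h1 : Q ≤ 𝐍(zpowers ρ) := fun g hg => by
      obtain ⟨j, hj⟩ := scalar_of_comm p3 (by norm_num) hE (h.oc.na 3 p3 (by norm_num) E hE)
        (c1 E hE) (hN (hQ.le hg)) fun n hn v hv => by
          obtain ⟨c, hc', e⟩ := (hS.mono (le_centralizer_iff.1 hEC) le_top).frattini_elem
            (H5.normalizer_le_normalizer_centralizer' E hn)
          obtain ⟨r, hr, s, hs', e'⟩ := (mem_sup_iff_of_le_normalizer' hQ.le).1 (hs.ge e)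
          have h2 : ∀ w ∈ E, n * w * n⁻¹ = s * w * s⁻¹ := fun w hw => by
            rw [show n = c⁻¹ * r * s by rw [mul_assoc, e', inv_mul_cancel_left],
              show c⁻¹ * r * s * w * (c⁻¹ * r * s)⁻¹ = c⁻¹ * r * (s * w * s⁻¹) * (c⁻¹ * r)⁻¹ by group,
              ← U4.mem_cent.1 (mul_mem (inv_mem hc') (le_centralizer_iff.1 hEC hr)) _
                (conj_mem_of_mem_normalizer (hN (hQ.le hs')) hw), mul_inv_cancel_right]
          have h3 : g * s = s * g := congrArg Subtype.val (hc.is_comm.comm ⟨g, hg⟩ ⟨s, hs'⟩)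
          rw [h2 v hv, h2 _ (conj_mem_of_mem_normalizer (hN (hQ.le hg)) hv),
            show g * (s * v * s⁻¹) * g⁻¹ = g * s * v * (g * s)⁻¹ by group, h3]
          group
      refine mem_normalizer_of_conj_mem fun w hw => ?_
      rw [hj w (zpowers_le.2 hρE hw)]
      exact pow_mem hw j
    have h2 := relIndex_cent_prime_dvd h1 ((Nat.card_zpowers ρ).trans hρ)
    rw [← inf_relIndex_right, show 𝐂(zpowers ρ) ⊓ Q = ⊥ from U4.eq_bot_of_forall fun g hg =>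
      hF g hg.2 (U4.mem_cent.2 fun w hw => (mul_inv_eq_iff_eq_mul.1 ((scalar_of_eig p3 hE
        (h.oc.na 3 p3 (by norm_num) E hE) (c1 E hE) (hN (hQ.le hg.2)) hρE (k := 1)
        (fun e => by simp [e] at hρ) (by rw [← U4.mem_cent.1 hg.1 ρ (mem_zpowers ρ)]; simp) w hw).trans
        (pow_one w))).symm), relIndex_bot_left, cQ] at h2
    omega
  · omega
  · obtain ⟨g, -, hg⟩ := IsSylowIn.exists_conj_le (S := Q) ⟨le_top, hQ.isPGroup, by
      rw [relIndex_top_right]; omega⟩ h4.isPGroup_V le_top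
    have h5 := h4.conj g
    exact h5.ne (hU _ (hg (U4.conj_mem_conj_iff.2 (t_mem_V a b))) _
      (hg (U4.conj_mem_conj_iff.2 (s_mem_V a b))) h5.ot h5.os)
  · exact h32 (g3 ▸ Dvd.dvd.mul_left ⟨2 ^ k, by ring⟩ _)

end LV0

end CfsgLib.SW
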