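import Cfsg.Agent.Lib.Hom.SDa

/-!
# The semidihedral frame under `OW` (adapted from `SW/MC.lean`, `SW/SD1.lean`)
-/

set_option autoImplicit false

namespace CfsgLib.SW

open Subgroup Cfsg CfsgLib.FT CfsgLib.FT.BGN CfsgLib.Blk CfsgLib.GW CfsgLib.Hom
open scoped commutatorElement ComplexConjugate

variable {G : Type*} [Group G]

/-- The common frame for the dihedral and the semidihedral case. -/
structure MC0 (S : Subgroup G) (x y z t : G) : Prop extends Fr ⊤ S x y z where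
  ot : orderOf t = 2
  tz : t ∈ zpowers z
  y2 : y * y = 1
  inv2 : y * (x * x) * y⁻¹ = (x * x)⁻¹
  oc : OW G

variable [Finite G]

namespace MC0

variable {S : Subgroup G} {x y z t a s : G} (h : MC0 S x y z t)
include h

omit [Finite G] in
theorem tx : t ∈ zpowers (x * x) := zpowers_le.2 h.zx h.tz

omit [Finite G] in
theorem tA : t ∈ zpowers x := sq_le x h.tx

omit [Finite G] in
theorem tS : t ∈ S := h.AS h.tA

omit [Finite G] in
theorem t1 : t ≠ 1 := ne_one_of_inv h.ot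

omit [Finite G] in
theorem tt : t * t = 1 := mul_self_of_inv h.ot

omit [Finite G] in
theorem oy : orderOf y = 2 := inv_of_mul_self h.y2 fun e => h.yA (e ▸ one_mem _)

theorem uniq (ha : a ∈ zpowers x) (e : a * a = 1) : a = 1 ∨ a = t :=
  eq_of_inv_of_cyclic inferInstance h.tA h.ot ha e

theorem cent_A (ha : a ∈ zpowers x) (e : y * a * y⁻¹ = a) : a = 1 ∨ a = t := by
  rcases mem_zpowers_or h.pA ha (mem_zpowers x) with h1 | h1
  · have h2 := U4.conj_eq_of_mem_cent1 (U4.cent1_le_cent1 h1 (U4.mem_cent1_of_conj_eq e))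
    exact absurd (h2 ▸ h.inv :) h.xxA0
  · refine h.uniq ha ?_
    nth_rewrite 1 [← e, inverts_zpowers h.inv2 a h1]
    exact inv_mul_cancel a

theorem N0_le : N0 ⊤ z ≤ 𝐂[t] := inf_le_right.trans (norm_le_cent_inv inferInstance h.tz h.ot)

theorem S_le : S ≤ 𝐂[t] := h.SN.trans h.N0_le

theorem four : Four t y := ⟨h.ot, h.oy, U4.mem_cent1'.1 (h.S_le h.yS), fun e => h.yA (e ▸ h.tA)⟩

theorem cent_cases (hs : s ∈ S) (hsA : s ∉ zpowers x) (ha : a ∈ S ⊓ 𝐂[s]) :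
    a * s⁻¹ ∈ zpowers t ∨ a ∈ zpowers t := by
  have key : ∀ c ∈ zpowers x, c ∈ 𝐂[s] → c ∈ zpowers t := fun c hc e =>
    (mem_zpowers_inv h.ot).2 (h.cent_A hc (by
      rw [← h.conj_eq hs hsA hc, U4.conj_eq_of_mem_cent1 (U4.mem_cent1_comm.1 e)]))
  by_cases e : a ∈ zpowers x
  · exact Or.inr (key a e ha.2)
  · exact Or.inl (key _ (h.mul_mem_A ha.1 e (inv_mem hs) fun e => hsA (inv_mem_iff.1 e))
      (mul_mem ha.2 (inv_mem (U4.self_mem_cent1 s))))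

theorem card_cent (hs : s ∈ S) (hsA : s ∉ zpowers x) : Nat.card ↥(S ⊓ 𝐂[s]) = 4 := by
  have := Fintype.ofFinite G
  rw [card_eq_relIndex_mul (zpowers_le.2 (mem_inf.2 ⟨h.tS, U4.mem_cent1_comm.1 (h.S_le hs)⟩)),
    relIndex_eq_two_iff_exists_notMem_and.2 ⟨s⁻¹, inv_mem (mem_inf.2 ⟨hs, U4.self_mem_cent1 s⟩),
      fun e => hsA (zpowers_le.2 h.tA (inv_mem_iff.1 e)), fun b hb => h.cent_cases hs hsA hb⟩,
    card_zpowers_inv h.ot]

theorem four_dvd : 4 ∣ Nat.card (zpowers x) := by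
  obtain ⟨k, hk⟩ := orderOf_eq_pow_of_mem_isPGroup h.syl.isPGroup h.xS
  rw [Nat.card_zpowers, hk]
  rcases k with _ | _ | k
  · exact absurd (by simp [orderOf_eq_one_iff.1 hk]) h.xxA0
  · exact absurd (by simp [mul_self_of_inv hk]) h.xxA0
  · exact ⟨2 ^ k, by ring⟩

theorem odd_index : Odd S.index := by
  have := h.syl.not_dvd
  rwa [relIndex_top_right, ← even_iff_two_dvd, Nat.not_even_iff_odd] at this

/-- The order of the class of a reflection in `N0`. -/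
theorem relIndex_cent (hs : s ∈ S) (hsA : s ∉ zpowers x) : 2 * (𝐂[s]).relIndex (N0 ⊤ z) =
    (𝐂[s]).relIndex (Od (N0 ⊤ z)) * Nat.card (zpowers x) := by
  have := Fintype.ofFinite G
  have h1 := U4.IsComplIn.card_mul (U4.IsComplIn.cent1 h.compl (h.SN.trans (le_norm_Od _)) hs)
  have h2 := U4.IsComplIn.card_mul h.compl
  rw [card_eq_relIndex_mul (inf_le_left : N0 ⊤ z ⊓ 𝐂[s] ≤ _), ← h1, h.card_cent hs hsA, h.card_S,
    card_eq_relIndex_mul (inf_le_left : Od (N0 ⊤ z) ⊓ 𝐂[s] ≤ _), inf_relIndex_left,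
    inf_relIndex_left] at h2
  refine Nat.eq_of_mul_eq_mul_left (Nat.card_pos (α := ↥(Od (N0 ⊤ z) ⊓ 𝐂[s]))) ?_
  linarith

variable [IsSimpleGroup G]

theorem comm_top : commutator G = ⊤ := BSW.commutator_eq_top_of_simple fun e =>
  h.xxA0 (by simpa [e.is_comm.comm y x] using h.inv)

theorem conj_t {u : G} (hu : orderOf u = 2) : ∃ g, g * t * g⁻¹ = u := by
  have := Fintype.ofFinite G
  obtain ⟨g, hg⟩ := H5.exists_conj_mem_of_index_mod_four (M := zpowers x) (t := u) (by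
    have h1 := h.card_S
    rw [card_eq_relIndex_mul h.AS, Nat.mul_left_inj Nat.card_pos.ne'] at h1
    obtain ⟨k, hk⟩ := h.odd_index
    rw [← relIndex_mul_index h.AS, h1, hk]
    omega) (by rw [sq, mul_self_of_inv hu]) (h.comm_top ▸ mem_top u)
  refine ⟨g, ?_⟩
  rw [← (h.uniq hg (by rw [show g⁻¹ * u * g * (g⁻¹ * u * g) = g⁻¹ * (u * u) * g by group,
    mul_self_of_inv hu]; simp)).resolve_left fun e => ne_one_of_inv hu (by
      rw [show u = g * (g⁻¹ * u * g) * g⁻¹ by group, e]; simp)]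
  group

theorem lv : LV0 G := by
  refine ⟨h.oc, fun a ha => ?_, fun a b h4 => IsSylowIn.of_maximal h4.V_le_cent h4.isPGroup_V
    fun T hT h1 h2 => ?_, fun a b ha hb => ?_⟩
  · obtain ⟨g, rfl⟩ := h.conj_t ha
    rw [U4.cent1_conj, card_map_conj]
    refine Dvd.dvd.trans ?_ (card_dvd_of_le h.S_le)
    rw [h.card_S]
    exact mul_dvd_mul_left 2 h.four_dvd
  · obtain ⟨g, -, hg⟩ := h.syl.exists_conj_le hT le_top
    have key : ∀ v ∈ V a b, g * v * g⁻¹ ∉ zpowers x → T ≤ V a b := fun v hv e => by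
      refine (eq_of_le_of_card_ge h1 ?_).ge
      rw [h4.card_V, ← h.card_cent (hg (U4.conj_mem_conj_iff.2 (h1 hv))) e, ← card_map_conj g T]
      exact card_le_of_le (le_inf hg (U4.cent1_conj g v ▸
        map_mono (h2.trans (U4.cent_le_cent1 hv))))
    have h5 := h4.conj g
    by_cases e : g * a * g⁻¹ ∈ zpowers x
    · refine key b (s_mem_V a b) fun e' => h5.ne ?_
      rw [(h.uniq e h5.tt).resolve_left h5.t1, (h.uniq e' h5.ss).resolve_left h5.s1]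
    · exact key a (t_mem_V a b) e
  · obtain ⟨g, rfl⟩ := h.conj_t ha
    obtain ⟨k, rfl⟩ := h.conj_t hb
    exact ⟨k * g⁻¹, by group⟩

omit [IsSimpleGroup G] in
theorem sqW : zpowers (x * x) ≤ 𝐂(Od (N0 ⊤ z)) :=
  h.sq_cent0 h.oc h.y2 (odd_Od _) (h.SN.trans (le_norm_Od _))

theorem eq_one {w : G} (hw : w ∈ Od (N0 ⊤ z)) (hs : s ∈ S) (hsA : s ∉ zpowers x) (h1 : w ∈ 𝐂[s])
    (h2 : w ∈ 𝐂[x]) : w = 1 := by
  have h3 : zpowers x ≤ 𝐂[w] := zpowers_le.2 (U4.mem_cent1_comm.1 h2)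
  refine h.eq_one0 h.oc (U4.mem_cent.2 fun b hb => U4.mem_cent1.1 ?_) (odd_of_mem_Od hw)
  by_cases e : b ∈ zpowers x
  · exact h3 e
  · simpa using mul_mem (h3 (h.mul_mem_A hb e (inv_mem hs) fun e => hsA (inv_mem_iff.1 e)))
      (U4.mem_cent1_comm.1 h1)

theorem two_cases {w b : G} (hw : w ∈ Od (N0 ⊤ z)) (hw1 : w ≠ 1) (hs : s ∈ S)
    (hsA : s ∉ zpowers x) (h1 : s ∈ 𝐂[w]) (hb : b ∈ S) (h2 : b ∈ 𝐂[w]) :
    b ∈ zpowers (x * x) ∨ b * s⁻¹ ∈ zpowers (x * x) := by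
  have key : ∀ a ∈ zpowers x, a ∈ 𝐂[w] → a ∈ zpowers (x * x) := fun a ha e =>
    (mem_zpowers_or h.pA ha (mem_zpowers x)).resolve_left fun e' => hw1 (h.eq_one hw hs hsA
      (U4.mem_cent1_comm.1 h1) (U4.mem_cent1_comm.1 (zpowers_le.2 e e')))
  by_cases e : b ∈ zpowers x
  · exact Or.inl (key b e h2)
  · exact Or.inr (key _ (h.mul_mem_A hb e (inv_mem hs) fun e => hsA (inv_mem_iff.1 e))
      (mul_mem h2 (inv_mem h1)))

omit [IsSimpleGroup G] in
theorem sq_cent1 {w : G} (hw : w ∈ Od (N0 ⊤ z)) : zpowers (x * x) ≤ 𝐂[w] :=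
  h.sqW.trans (U4.cent_le_cent1 hw)

omit [Finite G] [IsSimpleGroup G] in
theorem xyS : x * y ∈ S := mul_mem h.xS h.yS

omit [Finite G] [IsSimpleGroup G] in
theorem xyA : x * y ∉ zpowers x := h.mul_y_notMem (mem_zpowers x)

theorem mem_V {a b v : G} (h4 : Four a b) (hv : orderOf v = 2) (h1 : v ∈ 𝐂[a]) (h2 : v ∈ 𝐂[b]) :
    v = a ∨ v = b ∨ v = a * b := by
  have h3 : v ∈ 𝐂(V a b) := cent_V a b ▸ ⟨h1, h2⟩
  exact (h4.mem_V.1 (mem_of_norm_sylow (k := 1) (h.lv.syl a b h4) h3 (U4.cent_le_norm _ h3)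
    hv)).resolve_left (ne_one_of_inv hv)

omit [IsSimpleGroup G] in
theorem exists_rho {r : ℕ} (hr : r.Prime) (hd : r ∣ Nat.card (Od (N0 ⊤ z))) :
    ∃ P, IsSylowIn r P (Od (N0 ⊤ z)) ∧ S ≤ 𝐍(P) ∧ ∃ ρ ∈ P, orderOf ρ = r ∧ ρ ∈ 𝐂(P) ∧
      S ≤ 𝐍(zpowers ρ) ∧ IsSylowIn 2 (S ⊓ 𝐂[ρ]) 𝐂[ρ] := by
  have := Fact.mk hr
  have r2 : r ≠ 2 := fun e => absurd ((odd_Od _).of_dvd_nat (e ▸ hd)) (by decide)
  obtain ⟨k, hk⟩ := IsPGroup.iff_card.1 h.syl.isPGroup
  obtain ⟨P, hP, hS⟩ := exists_inv_sylow r (h.SN.trans (le_norm_Od _))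
    (hk ▸ (Nat.coprime_two_left.2 (odd_Od _)).pow_left k) (Or.inr (solvable_Od _))
  obtain ⟨E, hE, h1, h2, hm⟩ := (h.oc.c1 r hr r2).exists_omega hr hP.isPGroup
  obtain ⟨ρ, hρ, ho⟩ := exists_orderOf hr (H := P) (by
    rw [hP.card_eq_ordProj]
    exact dvd_pow_self r (hr.factorization_pos_of_dvd Nat.card_pos.ne' hd).ne')
  have h3 := (hm ρ).2 ⟨hρ, ho ▸ pow_orderOf_eq_one ρ⟩
  have h4 : S ≤ 𝐍(zpowers ρ) := fun s hs => by
    rcases h.oc.pm hr r2 hE (h2 (hS hs)) (centralizer_le (fun a ha => hP.le ((hm a).1 ha).1)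
      (h.sqW (h.sq_mem_sq hs))) with e | e
    · exact U4.cent_le_norm _ (centralizer_le (zpowers_le.2 h3) e)
    · exact mem_normalizer_of_conj_mem fun w hw => by
        rw [e w (zpowers_le.2 h3 hw)]; exact inv_mem hw
  exact ⟨P, hP, hS, ρ, hρ, ho, h1 h3, h4, h.syl.inf_of_le_normalizer le_top (U4.cent_zpowers ρ ▸
    h4.trans (H5.normalizer_le_normalizer_centralizer' _))⟩

end MC0

omit [Finite G]

/-- The frame in the semidihedral case. -/
structure SDh0 (S : Subgroup G) (x y z t : G) : Prop extends MC0 S x y z t where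
  zz : z * z = t
  yx : y * x * y⁻¹ * x = t

namespace SDh0

variable {S : Subgroup G} {x y z t s a g : G} (h : SDh0 S x y z t)
include h

theorem A0_iff : a ∈ zpowers (z * z) ↔ a = 1 ∨ a = t := by rw [h.zz, mem_zpowers_inv h.ot]

theorem tA0 : t ∈ zpowers (z * z) := h.A0_iff.2 (Or.inr rfl)

theorem xy_sq : x * y * (x * y) = t := by
  rw [← h.yx, ← comm_A (mem_zpowers x) (h.yconj (mem_zpowers x)), inv_of_inv h.oy]
  group

theorem oz : orderOf z = 4 := orderOf_eq_prime_pow (p := 2) (n := 1)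
  (by rw [pow_one, sq, h.zz]; exact h.t1) (by rw [pow_succ, pow_mul, pow_one, sq, sq, h.zz, h.tt])

theorem yz : y * z * y⁻¹ = z⁻¹ := inverts_zpowers h.inv2 z h.zx

theorem refl_cases (hs : s ∈ S) (hsA : s ∉ zpowers x) :
    ∃ a ∈ zpowers (x * x), s = a * y ∨ s = a * (x * y) := by
  obtain ⟨c, hc, rfl⟩ := h.exists_mul hs hsA
  rcases mem_sq_or hc with e | e
  exacts [⟨c, e, Or.inl rfl⟩, ⟨_, e, Or.inr (by group)⟩]

theorem mul_y_sq (ha : a ∈ zpowers (x * x)) : a * y * (a * y) = 1 := by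
  rw [show a * y * (a * y) = a * (y * a * y⁻¹) * (y * y) by group, inverts_zpowers h.inv2 a ha, h.y2]
  simp

variable [Finite G]

theorem frH : Fr 𝐂[t] S x y z :=
  ⟨h.syl.mono h.S_le le_top, h.xS, h.yS, h.yA, h.cov, h.zx, h.z1, h.inv, h.yy⟩

theorem N0H : N0 𝐂[t] z = N0 ⊤ z :=
  le_antisymm (inf_le_inf_right _ le_top) (le_inf h.N0_le inf_le_right)

theorem four_eq (ha : a ∈ zpowers x) (h1 : a * a ≠ 1) (h2 : a * a * (a * a) = 1) :
    a = z ∨ a = z⁻¹ := by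
  have h3 := (h.uniq (mul_mem ha ha) h2).resolve_left h1
  rcases h.uniq (mul_mem ha (inv_mem h.zA)) (by
    rw [mul_assoc, ← mul_assoc z⁻¹, comm_A (inv_mem h.zA) ha, ← mul_assoc, ← mul_assoc, h3, ← h.zz]
    simp) with e | e
  · exact Or.inl (mul_inv_eq_one.1 e)
  · refine Or.inr (eq_inv_of_mul_eq_one_left ?_)
    rw [mul_inv_eq_iff_eq_mul.1 e, mul_assoc, h.zz, h.tt]

theorem norm_T {T : Subgroup G} (hT : T ≤ S) (h1 : zpowers (x * x) ≤ T) (h2 : x * y ∉ T) :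
    𝐍(T) ≤ N0 ⊤ z := fun n hn => by
  have h3 := conj_mem_of_mem_normalizer hn (h1 h.zx)
  have h4 : n * z * n⁻¹ * (n * z * n⁻¹) ≠ 1 := by
    rw [_root_.conj_mul, h.zz]; exact U4.conj_ne_one_iff.2 h.t1
  refine ⟨mem_top n, Fr.mem_norm_of_conj (mem_zpowers z) ?_⟩
  by_cases e : n * z * n⁻¹ ∈ zpowers x
  · rcases h.four_eq e h4 (by simp only [_root_.conj_mul, h.zz, h.tt]; simp) with e | e <;> simp [e]
  · obtain ⟨a, ha, e | e⟩ := h.refl_cases (hT h3) e <;> rw [e] at h3 h4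
    · exact absurd (h.mul_y_sq ha) h4
    · exact absurd (by simpa using mul_mem (inv_mem (h1 ha)) h3) h2

theorem conj_cases' [Fintype G] (hs : s ∈ S) (hsA : s ∉ zpowers x) :
    ∃ c ∈ S, c * y * c⁻¹ = s ∨ c * (x * y) * c⁻¹ = s := by
  obtain ⟨a, ha, rfl | rfl⟩ := h.refl_cases hs hsA
  · obtain ⟨c, hc, e⟩ := h.exists_conj_A h.yS h.yA ha
    exact ⟨c, h.AS hc, Or.inl e⟩
  · obtain ⟨c, hc, e⟩ := h.exists_conj_A h.xyS h.xyA ha
    exact ⟨c, h.AS hc, Or.inr e⟩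

variable [IsSimpleGroup G]

theorem conj_xy : ∃ g ∈ 𝐂[t], g * (x * y) * g⁻¹ = z := by
  have := Fintype.ofFinite G
  suffices ∃ g, g * (x * y) * g⁻¹ = z by
    obtain ⟨g, hg⟩ := this
    exact ⟨g, U4.mem_cent1_of_conj_eq (by
      rw [← h.xy_sq, ← _root_.conj_mul, hg, h.zz, h.xy_sq]), hg⟩
  by_contra hne
  have hD : ∀ b, b ∈ zpowers (x * x) ⊔ zpowers y ↔
      b ∈ zpowers (x * x) ∨ b * y⁻¹ ∈ zpowers (x * x) := fun b => by
    rw [mem_sup_iff_of_le_normalizer' (zpowers_le.2 (inverts_zpowers h.inv2).mem_norm)]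
    simp only [mem_zpowers_inv h.oy]
    refine ⟨?_, fun e => e.elim (fun e => ⟨b, e, 1, Or.inl rfl, mul_one b⟩)
      fun e => ⟨_, e, y, Or.inr rfl, by simp⟩⟩
    rintro ⟨n, hn, a, rfl | rfl, rfl⟩ <;> simp [hn]
  have key : ∀ a ∈ S, a ∉ zpowers (x * x) ⊔ zpowers y → ∀ g, g * a * g⁻¹ ∉
      zpowers (x * x) ⊔ zpowers y := fun a ha haD g hg => by
    have h4 : ∀ b ∈ zpowers (x * x) ⊔ zpowers y, b * b ≠ 1 → b ∈ zpowers (x * x) := fun b hb e =>
      ((hD b).1 hb).resolve_right fun e' => e (by simpa using h.mul_y_sq e')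
    by_cases e : a ∈ zpowers x
    · have h1 := (mem_zpowers_or h.pA e (mem_zpowers x)).resolve_right fun e => haD (mem_sup_left e)
      have h2 := h4 _ hg (by
        rw [_root_.conj_mul, U4.conj_ne_one_iff]
        intro e'
        rcases h.uniq e e' with rfl | rfl
        exacts [haD (one_mem _), haD (mem_sup_left h.tx)])
      exact h.xA (eq_of_le_of_card_ge (sq_le x) (((card_le_of_le (zpowers_le.2 h1)).trans (by
        rw [Nat.card_zpowers, Nat.card_zpowers, U4.orderOf_conj])).trans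
        (card_le_of_le (zpowers_le.2 h2))) ▸ mem_zpowers x)
    · obtain ⟨b, hb, rfl | rfl⟩ := h.refl_cases ha e
      · exact haD ((hD _).2 (Or.inr (by simpa using hb)))
      obtain ⟨c, -, hc⟩ := h.exists_conj_A h.xyS h.xyA hb
      rw [← hc, show g * (c * (x * y) * c⁻¹) * g⁻¹ = g * c * (x * y) * (g * c)⁻¹ by group] at hg
      have h5 : g * c * (x * y) * (g * c)⁻¹ * (g * c * (x * y) * (g * c)⁻¹) ≠ 1 := by
        rw [_root_.conj_mul, h.xy_sq]; exact U4.conj_ne_one_iff.2 h.t1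
      rcases h.four_eq (sq_le x (h4 _ hg h5)) h5 (by
        simp only [_root_.conj_mul, h.xy_sq, h.tt]; simp) with e | e
      · exact hne ⟨_, e⟩
      · refine hne ⟨y⁻¹ * (g * c), ?_⟩
        rw [show y⁻¹ * (g * c) * (x * y) * (y⁻¹ * (g * c))⁻¹ =
          y⁻¹ * (g * c * (x * y) * (g * c)⁻¹) * y by group, e, ← h.yz]
        group
  have hout : ∀ a ∈ S, a ∉ zpowers (x * x) ⊔ zpowers y →
      a * x⁻¹ ∈ zpowers (x * x) ⊔ zpowers y := fun a ha haD => by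
    by_cases e : a ∈ zpowers x
    · exact mem_sup_left ((mem_sq_or e).resolve_left fun e => haD (mem_sup_left e))
    · obtain ⟨b, hb, rfl | rfl⟩ := h.refl_cases ha e
      · exact absurd ((hD _).2 (Or.inr (by simpa using hb))) haD
      · rw [show b * (x * y) * x⁻¹ = b * (x * x) * y * (y⁻¹ * x⁻¹ * y * x⁻¹) by group,
          show y⁻¹ * x⁻¹ * y * x⁻¹ = (x * y * (x * y))⁻¹ by nth_rewrite 2 [← inv_of_inv h.oy]; group,
          h.xy_sq]
        exact mul_mem (mul_mem (mem_sup_left (mul_mem hb (mem_zpowers _)))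
          (mem_sup_right (mem_zpowers y))) (mem_sup_left (inv_mem h.tx))
  have h1 := Fusion.commutator_inf_le_of_isSylowIn h.syl (L := zpowers (x * x) ⊔ zpowers y)
    (fun a ha g _ hg => by
      by_cases e : a ∈ zpowers (x * x) ⊔ zpowers y
      · exact mul_mem (by_contra fun e' => key _ hg e' g⁻¹ (by simpa [mul_assoc] using e)) (inv_mem e)
      · simpa [mul_assoc] using mul_mem (hout _ hg (key a ha e g)) (inv_mem (hout a ha e)))
    (show x ∈ ⁅⊤, ⊤⁆ ⊓ S from ⟨(h.comm_top.ge (mem_top x) :), h.xS⟩)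
  rcases (hD x).1 h1 with e | e
  exacts [h.xA e, h.xyA (by simpa [inv_of_inv h.oy] using sq_le x e)]

theorem cent_y : Nilp2 (𝐂[t] ⊓ 𝐂[y]) ∧ IsSylowIn 2 (V t y) (𝐂[t] ⊓ 𝐂[y]) := by
  rw [← cent_V]
  exact ⟨nilp2_of_cent (h.lv.syl t y h.four) fun P hP g hg _ _ => centralizer_le hP hg,
    h.lv.syl t y h.four⟩

end SDh0

variable [Fintype G]

namespace SDh0

variable {S : Subgroup G} {x y z t : G} (h : SDh0 S x y z t) {l μ ν : Irr (zpowers x)}
  {α β γ η φ : G → ℂ} {M : ℕ} {ε : Irr (zpowers x) → G → ℂ}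
include h

theorem odd_t (hν : ¬ Ev z ν) : ν t = -1 := by
  refine (mul_self_eq_one_iff.1 ?_).resolve_left fun e => hν (h.ev_iff.2 fun a ha => ?_)
  · rw [← (lin ν).map_mul h.tA h.tA, h.tt, (lin ν).one]
  · rcases h.A0_iff.1 ha with rfl | rfl
    exacts [(lin ν).one, e]

theorem dot_odd (hφ : ∀ g, φ (t * g) = φ g) (hν : ¬ Ev z ν) : cfdot (zpowers x) φ ν = (0 : ℤ) := by
  have := cfdot_tr (φ := φ) (ψ := ν) h.tA
  rw [cfdot_congr (φ := tr t φ) (φ' := φ) (ψ' := -ν) (fun g _ => hφ g) fun g hg => by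
    simp [tr, (lin ν).map_mul h.tA hg, h.odd_t hν], cfdot_neg_right] at this
  linear_combination -this / 2

theorem even (d : Dec 𝐂[t] y z l α β γ ε) : (∀ g, α (t * g) = α g) ∧ (∀ g, β (t * g) = β g) ∧
    (∀ g, γ (t * g) = γ g) ∧ ∀ μ, Gen z μ → ∀ g, ε μ (t * g) = ε μ g := by
  have h4 : ¬ 4 ∣ orderOf t := by rw [h.ot]; decide
  have e1 : ∀ μ, Gen z μ → ε μ 1 = 1 + α 1 ∧ ε μ t = 1 + α t := fun μ hμ => by
    have f1 := h.frH.Th_one hμ.1
    have f2 := h.frH.T0_four h.oz (h.sub_zero' hμ.1) h4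
    rw [← Th] at f2
    rw [d.th μ hμ] at f1 f2
    simp only [Pi.add_apply, Pi.sub_apply, cf1_one, cf1_apply (U4.self_mem_cent1 t)] at f1 f2
    exact ⟨by linear_combination -f1, by linear_combination -f2⟩
  have f1 := h.frH.Th_one d.ev
  have f2 := h.frH.T0_four h.oz (h.sub_zero' d.ev) h4
  rw [← Th] at f2
  rw [d.thl] at f1 f2
  simp only [Pi.add_apply, cf1_one, cf1_apply (U4.self_mem_cent1 t)] at f1 f2
  obtain ⟨μ, hμ⟩ := h.exists_gen
  have ha : ∀ g, α (t * g) = α g := (dirr_central d.da h.ot).resolve_right fun e => by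
    obtain ⟨f3, f4⟩ := e1 μ hμ
    rcases dirr_central (d.de μ hμ) h.ot with e' | e'
    · have := e' 1
      rw [mul_one] at this
      exact d.da.one_ne_zero (by linear_combination (this - f4 + f3 - e) / -2)
    · exact two_ne_zero (α := ℂ) (by linear_combination e' - f4 - f3 - e)
  have ha1 := ha 1
  rw [mul_one] at ha1
  have hb : ∀ {β γ : G → ℂ}, IsDirr 𝐂[t] β → IsDirr 𝐂[t] γ → 1 + α 1 + β 1 + γ 1 = 0 →
      1 + α t + β t + γ t = 0 → ∀ g, β (t * g) = β g := fun {β γ} db dc f1 f2 =>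
    (dirr_central db h.ot).resolve_right fun e => by
      rcases dirr_central dc h.ot with e' | e'
      · have := e' 1
        rw [mul_one] at this
        exact db.one_ne_zero (by linear_combination (f1 - f2 + ha1 + e + this) / 2)
      · exact (d.de μ hμ).one_ne_zero (by
          linear_combination (e1 μ hμ).1 + (f1 + f2 - ha1 - e - e') / 2)
  exact ⟨ha, hb d.db d.dc f1 f2, hb d.dc d.db (by linear_combination f1) (by linear_combination f2),
    fun μ hμ => (dirr_central (d.de μ hμ) h.ot).resolve_right fun e => (d.de μ hμ).one_ne_zero (by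
      linear_combination ((e1 μ hμ).1 - (e1 μ hμ).2 - ha1 + e) / 2)⟩

variable [IsSimpleGroup G]

theorem sym (hφ : φ ∈ CF 𝐂[t]) (hp : projB (B0 2 𝐂[t]) φ = φ) (ht : ∀ g, φ (t * g) = φ g)
    (h1 : ∀ μ : Irr (zpowers x), Ev z μ → cfdot 𝐂[t] φ (Th 𝐂[t] μ) = 0) (hy : φ y = 0) : Sym t φ := by
  classical
  have hA : ∀ a ∈ zpowers x, a ∉ zpowers (z * z) → φ a = 0 := fun a ha ha0 => by
    have := h.val_of_const (cfRes_mem_CF h.frH.AL hφ) (c' := (0 : ℤ)) (fun μ hμ => by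
      have := h1 μ hμ
      rw [h.frH.cfdot_Th hp, sub_eq_zero] at this
      rw [cfdot_cfRes_left, ← this]) (fun μ hμ => by rw [cfdot_cfRes_left, h.dot_odd ht hμ]) a
    rw [cfRes_apply ha, if_neg ha0] at this
    simpa using this
  have key : ∀ a ∈ S, Nilp2 (𝐂[t] ⊓ 𝐂[a]) → φ a = 0 → ∀ c ∈ 𝐂[t], ∀ v ∈ 𝐂[t],
      Odd (orderOf v) → v ∈ 𝐂[c * a * c⁻¹] → φ (c * a * c⁻¹ * v) = 0 := fun a ha hn h0 c hc v hv ho e => by
    obtain ⟨k, hk⟩ := h.exists_pow ha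
    rw [show c * a * c⁻¹ * v = c * (a * (c⁻¹ * v * c)) * c⁻¹ by group, CF_conj hφ hc, ← hp,
      proj0_mul hk (h.S_le ha) (hn _ (mem_inf.2 ⟨mul_mem (mul_mem (inv_mem hc) hv) hc, ?_⟩)
        (by rwa [H5.orderOf_conj''])), hp, h0]
    rw [U4.cent1_conj] at e
    exact mem_map_conj_iff.1 e
  have key2 : ∀ a ∈ zpowers x, a ∉ zpowers (z * z) → Nilp2 (𝐂[t] ⊓ 𝐂[a]) := fun a ha ha0 =>
    h.frH.nilp.mono (h.frH.cent_le ((h.mem_iff (h.AS ha)).2 ⟨ha, ha0⟩))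
  refine ⟨ht, fun g h2 h3 => ?_⟩
  by_cases hg : g ∈ 𝐂[t]
  swap
  · exact hφ.1 g hg
  obtain ⟨u, hu, v, hv, rfl, huv, hk, ho⟩ := exists_p_part Nat.prime_two g
  have hu := zpowers_le.2 hg hu
  have hv := zpowers_le.2 hg hv
  obtain ⟨c, hc, e⟩ := h.frH.syl.exists_conj_le (isPGroup_zpowers_iff.2 hk) (zpowers_le.2 hu)
  have e := e (U4.conj_mem_conj_iff.2 (mem_zpowers u))
  have key3 : ∀ a ∈ S, Nilp2 (𝐂[t] ⊓ 𝐂[a]) → φ a = 0 → ∀ b ∈ 𝐂[t], b * a * b⁻¹ = c * u * c⁻¹ →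
      φ (u * v) = 0 := fun a ha hn h0 b hb e => by
    have e' : c⁻¹ * b * a * (c⁻¹ * b)⁻¹ = u := by
      rw [show c⁻¹ * b * a * (c⁻¹ * b)⁻¹ = c⁻¹ * (b * a * b⁻¹) * c by group, e]; group
    have := key a ha hn h0 _ (mul_mem (inv_mem hc) hb) v hv (Nat.coprime_two_right.1 ho)
    rw [e'] at this
    exact this (U4.mem_cent1'.2 huv)
  by_cases hA' : c * u * c⁻¹ ∈ zpowers x
  · refine key3 _ e (key2 _ hA' ?_) (hA _ hA' ?_) 1 (one_mem _) (by simp) <;> intro e' <;>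
      rcases h.A0_iff.1 e' with e' | e'
    all_goals first
      | exact h3 (by rwa [not_not.1 (mt U4.conj_ne_one_iff.2 (not_not.2 e')), one_mul])
      | (have e'' : u = t := by
            rw [← U4.conj_eq_of_mem_cent1 hc] at e'; simpa using e'
         exact h2 ⟨U4.mem_cent1.1 hg, by rwa [e'', ← mul_assoc, h.tt, one_mul]⟩)
  · obtain ⟨b, hb, e' | e'⟩ := h.conj_cases' e hA'
    · exact key3 y h.yS h.cent_y.1 hy b (h.S_le hb) e'
    · obtain ⟨g, hg', e''⟩ := h.conj_xy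
      refine key3 z (h.AS h.zA) (key2 z h.zA h.zA0) (hA z h.zA h.zA0) (b * g⁻¹)
        (mul_mem (h.S_le hb) (inv_mem hg')) ?_
      rw [← e', ← e'']; group

end SDh0

end CfsgLib.SW
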