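import Cfsg.Agent.Lib.Hom.SDb

/-!
# The semidihedral case under `OW`: characters (adapted from `SW/SD2.lean`, `SW/SD3.lean`)
-/

set_option autoImplicit false

namespace CfsgLib.SW

open Subgroup Cfsg CfsgLib.FT CfsgLib.FT.BGN CfsgLib.Blk CfsgLib.GW CfsgLib.Hom
open scoped commutatorElement ComplexConjugate

variable {G : Type*} [Group G] [Fintype G]

namespace SDh0

variable {S : Subgroup G} {x y z t g : G} (h : SDh0 S x y z t) {l μ ν : Irr (zpowers x)}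
  {α β γ η φ : G → ℂ} {M : ℕ} {ε : Irr (zpowers x) → G → ℂ}
include h

theorem Th_four {L : Subgroup G} (hL : Fr L S x y z) (hμ : Ev z μ) (hg : ¬ 4 ∣ orderOf g) :
    Th L μ g = 0 := hL.T0_four h.oz (h.sub_zero' hμ) hg

theorem vals_ε {L : Subgroup G} (hL : Fr L S x y z) (d : Dec L y z l α β γ ε) (hg : g ∈ L)
    (h4 : ¬ 4 ∣ orderOf g) : 1 + α g + β g + γ g = 0 ∧ ∀ μ, Gen z μ → ε μ g = 1 + α g := by
  refine ⟨by simpa [d.thl, cf1_apply hg] using h.Th_four hL d.ev h4, fun μ hμ => ?_⟩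
  have := h.Th_four hL hμ.1 h4
  simp only [d.th μ hμ, Pi.add_apply, Pi.sub_apply, cf1_apply hg] at this
  linear_combination -this

theorem degH (d : Dec 𝐂[t] y z l α β γ ε) (e : Eta 𝐂[t] z ε η M) : α z = 1 ∧ ∃ a b c : ℤ,
    α 1 = (1 + a * (2 * M + 2) : ℤ) ∧ β 1 = (-1 + b * (2 * M + 2) : ℤ) ∧
    γ 1 = (-1 + c * (2 * M + 2) : ℤ) := by
  obtain ⟨t1, t2, t3, -⟩ := h.even d
  obtain ⟨va, a, -, ea⟩ := h.frH.val d.da.mem_ZIrr d.pa h.ev_one (fun _ => d.dot_a)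
    fun _ => h.dot_odd t1
  obtain ⟨-, b, -, eb⟩ := h.frH.val d.db.mem_ZIrr d.pb d.ev (fun _ => d.dot_b)
    fun _ => h.dot_odd t2
  obtain ⟨-, c, -, ec⟩ := h.frH.val d.dc.mem_ZIrr d.swap.pb d.ev (fun _ => d.swap.dot_b)
    fun _ => h.dot_odd t3
  rw [← e.card] at ea eb ec
  exact ⟨by simpa [cf1_apply h.zA] using va z h.zA h.zA0, a, b, c, by simpa using ea,
    by simpa using eb, by simpa using ec⟩

variable [IsSimpleGroup G]

theorem val_y (d : Dec 𝐂[t] y z l α β γ ε) (e : Eta 𝐂[t] z ε η M) : α y = -1 ∧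
    ∃ σ : ℤ, (σ = 1 ∨ σ = -1) ∧ β y = σ ∧ γ y = -σ ∧
      ∀ g ∈ 𝐂[t], kerB (B0 2 𝐂[t]) g y = 1 - α g + σ * β g - σ * γ g := by
  have hy := h.S_le h.yS
  have hint : ∀ φ ∈ ZIrr 𝐂[t], ∀ n : ℤ, φ 1 = n → Odd n → ∃ m : ℤ, φ y = m ∧ 1 ≤ m ^ 2 :=
    fun φ hφ n hn ho => by
      obtain ⟨m, hm⟩ := ZIrr_int_of_pow_eq hφ (x := y) fun k hk => by
        rw [h.oy] at hk
        obtain ⟨j, rfl⟩ := Nat.coprime_two_right.1 hk
        rw [pow_succ, pow_mul, sq, h.y2, one_pow, one_mul]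
      have := dvd_sub_of_ZIrr (k := 1) Nat.prime_two hφ hy (by rw [pow_one, sq, h.y2]) hm hn
      obtain ⟨j, rfl⟩ := ho
      exact ⟨m, hm, by rcases (by omega : 1 ≤ m ∨ m ≤ -1) with e | e <;> nlinarith⟩
  obtain ⟨-, a, b, c, ea, eb, ec⟩ := h.degH d e
  obtain ⟨p, hp, p1⟩ := hint α d.da.mem_ZIrr _ ea ⟨a * (M + 1), by ring⟩
  obtain ⟨q, hq, q1⟩ := hint β d.db.mem_ZIrr _ eb ⟨b * (M + 1) - 1, by ring⟩
  obtain ⟨r, hr, r1⟩ := hint γ d.dc.mem_ZIrr _ ec ⟨c * (M + 1) - 1, by ring⟩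
  obtain ⟨f1, f2⟩ := h.vals_ε h.frH d hy (by rw [h.oy]; decide)
  have key : ∀ φ, projB (B0 2 𝐂[t]) φ = φ → ∀ m : ℤ, φ y = m →
      cfdot 𝐂[t] (fun g => kerB (B0 2 𝐂[t]) g y) φ = m := fun φ h1 m hm => by
    rw [← cfdot_conj, cfdot_ker, h1, hm, map_intCast]
  have h1 := d.pyth e (key _ proj0_cf1 1 (by simp [cf1_apply hy])) (key α d.pa p hp)
    (key β d.pb q hq) (key γ d.swap.pb r hr) fun μ hμ => key _ (d.pe hμ) (1 + p)
      (by rw [f2 μ hμ, hp]; simp)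
  rw [cfnorm_eq_of_cfdot_eq (r := (4 : ℤ)) (by
    rw [cfdot_ker_self, kerB_self_of_nilp2 (k := 1) (by rw [pow_one, sq, h.y2]) hy h.cent_y.1
      h.cent_y.2, h.four.card_V]; simp)] at h1
  have h2 : 1 ^ 2 + p ^ 2 + q ^ 2 + r ^ 2 + M * (1 + p) ^ 2 ≤ 4 := by
    exact_mod_cast le_of_add_le_of_nonneg_right h1.ge cfnorm_nonneg
  have h3 : 1 + p + q + r = 0 := by rw [hp, hq, hr] at f1; exact_mod_cast f1
  have h4 := mul_le_mul_of_nonneg_right (d.M_pos e h.frH) (sq_nonneg (1 + p))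
  obtain rfl : p = -1 := by nlinarith [sq_nonneg (1 + p)]
  obtain rfl : r = -q := by omega
  have h5 : q ^ 2 = 1 := by nlinarith
  refine ⟨by simpa using hp, q, sq_eq_one_iff.1 h5, hq, by simpa using hr, fun g hg => ?_⟩
  rw [neg_sq q, h5, show (1 ^ 2 + (-1) ^ 2 + 1 + 1 + M * (1 + -1) ^ 2 : ℤ) = 4 by ring,
    right_eq_add] at h1
  have := apply_eq_zero_of_cfnorm h1 hg
  simp only [Pi.sub_apply, Pi.add_apply, Pi.smul_apply, smul_eq_mul, cf1_apply hg] at this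
  push_cast at this
  linear_combination this

theorem exists_HD' (d : Dec 𝐂[t] y z l α β γ ε) (e : Eta 𝐂[t] z ε η M) (hb : β y = 1)
    (hc : γ y = -1) (hk : ∀ g ∈ 𝐂[t], kerB (B0 2 𝐂[t]) g y = 1 - α g + β g - γ g) {q : ℤ}
    (hq : α 1 = q) : ∃ Φ, HD t q M Φ := by
  classical
  have hy := h.S_le h.yS
  have ha := (h.val_y d e).1
  obtain ⟨t1, t2, t3, t4⟩ := h.even d
  obtain ⟨f1, f2⟩ := h.vals_ε h.frH d (one_mem _) (by simp)
  have f3 := e.val y 0 fun μ hμ => by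
    rw [(h.vals_ε h.frH d hy (by rw [h.oy]; decide)).2 μ hμ, ha, add_neg_cancel]
  have f4 := e.val 1 _ f2
  have f5 := hk 1 (one_mem _)
  rw [kerB_of_not_conj (k := 0) (k' := 1) (one_pow _) (one_mem _) (by rw [pow_one, sq, h.y2])
    fun c _ => U4.conj_ne_one_iff.2 h.four.s1] at f5
  set P : ℂ → ℂ → G → ℂ := fun a b =>
    a • cf1 𝐂[t] + b • α + (-a) • β + (-b) • γ + (a + b) • η with hP
  have p1 : ∀ a b, projB (B0 2 𝐂[t]) (P a b) = P a b := fun a b => by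
    simp only [hP, projB_add, projB_smul, proj0_cf1, d.pa, d.pb, d.swap.pb, e.proj]
  have p2 : ∀ a b g, P a b (t * g) = P a b g := fun a b g => by
    simp only [hP, Pi.add_apply, Pi.smul_apply, t1, t2, t3, Q8Hyp.cf1_tr,
      e.tr _ _ fun μ hμ => t4 μ hμ g]
  have p3 := fun a b => d.dot_comb e a b (-a) (-b) (a + b)
  have p4 : ∀ φ, projB (B0 2 𝐂[t]) φ = φ →
      φ y = cfdot 𝐂[t] φ (cf1 𝐂[t]) - cfdot 𝐂[t] φ α + cfdot 𝐂[t] φ β - cfdot 𝐂[t] φ γ :=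
    fun φ hφ => by
      rw [← cfdot_sub_right, ← cfdot_add_right, ← cfdot_sub_right, ← congrFun hφ y, ← cfdot_ker]
      exact cfdot_congr (fun _ _ => rfl) fun g hg => by simp [hk g hg, cf1_apply hg]
  have p5 : ∀ φ, ∀ a b : ℂ, cfdot 𝐂[t] φ (cf1 𝐂[t]) = a → cfdot 𝐂[t] φ α = b →
      cfdot 𝐂[t] φ β = -a → cfdot 𝐂[t] φ γ = -b → (∀ μ, Gen z μ → cfdot 𝐂[t] φ (ε μ) = a + b) →
      ∀ c f : ℤ, cfdot 𝐂[t] φ (P c f) = 2 * c * a + 2 * f * b + (c + f) * (M * (a + b)) :=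
    fun φ a b h1 h2 h3 h4 h5 c f => by
      have := Dec.dot_comb' e h1 h2 h3 h4 h5 c f (-c) (-f) (c + f)
      push_cast at this
      rw [hP, this]
      ring
  refine ⟨fun a b => P a b, fun a b => ?_, fun a b => ?_, fun a b => ?_, fun a b => (p3 a b).1, ?_,
    fun f hf hs a b h1 h2 => ?_⟩
  · simpa only [Int.cast_neg, Int.cast_add] using add_mem (add_mem (add_mem (add_mem
      (intCast_smul_mem cf1_mem_ZIrr a) (intCast_smul_mem d.da.mem_ZIrr b))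
      (intCast_smul_mem d.db.mem_ZIrr (-a))) (intCast_smul_mem d.dc.mem_ZIrr (-b)))
      (intCast_smul_mem e.zirr (a + b))
  · obtain ⟨g1, g2, g3, g4, g5⟩ := p3 a b
    exact h.sym (p1 a b ▸ projB_mem_CF) (p1 a b) (p2 a b)
      (fun μ => d.dot_Th g1 g2 g3 g4 g5 (by ring) rfl) (by rw [p4 _ (p1 a b), g1, g2, g3, g4]; ring)
  · obtain ⟨g1, g2, g3, g4, g5⟩ := p3 a b
    rw [p5 _ a b g1 g2 g3 g4 g5]
    push_cast
    ring
  · ext g
    simp only [hP, Pi.add_apply, Pi.sub_apply, Pi.smul_apply, smul_eq_mul]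
    push_cast
    ring
  obtain ⟨g1, g2⟩ := d.of_dot_Th (φ := f) fun μ hμ => cfdot_eq_zero_of_supp fun g _ => by
    by_cases h3 : g ∈ secT t
    · exact Or.inr (h.Th_four h.frH hμ (not_four_dvd_of_mem_secT h.ot h3))
    by_cases h4 : (orderOf g).Coprime 2
    · exact Or.inr (h.Th_four h.frH hμ (not_four_dvd_of_odd h4))
    · exact Or.inl (hs.off g h3 h4)
  have g3 := p4 f hf
  rw [hs.off y (fun e => by simpa [h.four.ots] using e.2) (by simp [h.oy])] at g3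
  set u := cfdot 𝐂[t] f (cf1 𝐂[t])
  set v := cfdot 𝐂[t] f α
  have g4 : cfdot 𝐂[t] f β = -u := by linear_combination (g1 - g3) / 2
  have g5 : cfdot 𝐂[t] f γ = -v := by linear_combination (g1 + g3) / 2
  have g6 := p5 f u v rfl rfl g4 g5 g2 1 0
  have g7 := p5 f u v rfl rfl g4 g5 g2 0 1
  rw [← cfdot_conj, h1, map_intCast] at g6
  rw [← cfdot_conj, h2, map_intCast] at g7
  obtain ⟨k1, k2, k3, k4, k5⟩ := p3 u v
  have g8 : projB (B0 2 𝐂[t]) (f - P u v) = f - P u v := by rw [projB_sub, hf, p1]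
  have g9 : (f - P u v) 1 = 0 := by
    rw [← g8, projB_apply]
    refine Finset.sum_eq_zero fun χ hχ => mul_eq_zero_of_left (by_contra fun hne => ?_) _
    have key : ∀ φ, IsDirr 𝐂[t] φ → cfdot 𝐂[t] f φ = cfdot 𝐂[t] (P u v) φ →
        cfdot 𝐂[t] χ φ = 0 := fun φ hφ e => by_contra fun e' => hne (by
      rcases χ.irr.isDirr.eq_or_neg_of_cfdot_ne hφ e' with e' | e' <;> rw [e']
      · rw [cfdot_sub_left, e, sub_self]
      · rw [cfdot_neg_right, cfdot_sub_left, e, sub_self, neg_zero])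
    have m1 := key _ (isIrr_cf1 _).isDirr k1.symm
    have m2 := key _ d.da k2.symm
    have m3 := key _ d.db (g4.trans k3.symm)
    have m4 := key _ d.dc (g5.trans k4.symm)
    have m5 : projB (B0 2 𝐂[t]) χ = χ := by rw [projB_irr, if_pos hχ]
    refine (h.sym χ.mem_CF m5 (cfker_mul_left (cfker_constt (g8 ▸ projB_mem_CF) χ.irr hne
      ⟨U4.self_mem_cent1 t, fun g => by rw [Pi.sub_apply, hs.tr, p2, Pi.sub_apply]⟩))
      (fun μ => d.dot_Th m1 m2 m3 m4 (fun μ hμ => key _ (d.de μ hμ)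
        ((g2 μ hμ).trans (k5 μ hμ).symm)) (by ring) (by ring))
      (by rw [p4 _ m5, m1, m2, m3, m4]; ring)).notMem_B0 rfl h.ot m1 hχ
  simp only [hP, Pi.add_apply, Pi.sub_apply, Pi.smul_apply, smul_eq_mul, cf1_one, f4] at g9
  push_cast at g6 g7
  rw [hq] at f1 f5 g9
  linear_combination g9 - g6 - q * g7 - u * (f1 - f5) / 2 - v * (f1 + f5) / 2

omit [IsSimpleGroup G] in
theorem kap_eq (L : Subgroup G) {u : G} (hu : u * u = 1) : kap L z u (x * y) = 0 := by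
  rw [kap, if_neg]
  rintro ⟨k, -, e⟩
  exact h.t1 (by rw [← h.xy_sq, ← e, _root_.conj_mul, hu]; simp)

theorem charH : ∃ (q : ℤ) (M : ℕ) (Φ : ℤ → ℤ → G → ℂ), HD t q M Φ ∧
    2 * M + 2 = (zpowers (z * z)).relIndex (zpowers x) ∧ (2 * M + 2 : ℤ) ∣ q - 1 ∧
    2 * (N0 ⊤ z).relIndex 𝐂[t] * (q - 1) ^ 2 = q * (q + 1) * (𝐂[x * y]).relIndex (N0 ⊤ z) ^ 2 ∧
    (𝐂[y]).relIndex 𝐂[t] ^ 2 * (q + 1) =
      2 * (N0 ⊤ z).relIndex 𝐂[t] * q * (𝐂[y]).relIndex (N0 ⊤ z) ^ 2 := by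
  obtain ⟨l, α, β, γ, ε, d⟩ := h.frH.exists_dec
  obtain ⟨η, M, e⟩ := d.exists_eta h.frH
  obtain ⟨μ, hμ⟩ := h.exists_gen
  obtain ⟨az, a, -, -, hq, -⟩ := h.degH d e
  obtain ⟨ay, σ, hσ, hb, hc, hk⟩ := h.val_y d e
  obtain ⟨Φ, hΦ⟩ : ∃ Φ, HD t (1 + a * (2 * M + 2)) M Φ := by
    rcases hσ with rfl | rfl
    · exact h.exists_HD' d e (by simpa using hb) (by simpa using hc) (by simpa using hk) hq
    · exact h.exists_HD' d.swap e (by simpa using hc) (by simpa using hb)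
        (fun g hg => by rw [hk g hg]; push_cast; ring) hq
  refine ⟨_, M, Φ, hΦ, e.card, ⟨a, by ring⟩, ?_⟩
  generalize 1 + a * (2 * M + 2 : ℤ) = q at hq
  have hy := h.S_le h.yS
  have hxy := h.S_le h.xyS
  have n1 := d.da.one_ne_zero
  have n2 := (d.de μ hμ).one_ne_zero
  have e1 := (h.vals_ε h.frH d (one_mem _) (by simp)).2 μ hμ
  have f1 := d.formula_gen h.frH (u := x * y) ⟨hxy, fun e => h.xyA (e ▸ one_mem _),
    h.xy_sq ▸ h.tA0, by rw [h.xy_sq, h.tt], fun g hg => h.xy_sq ▸ U4.mem_cent1.1 hg⟩ hμ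
  have f2 := d.formula_gen h.frH (u := y) ⟨hy, h.four.s1, h.y2 ▸ one_mem _, by simp [h.y2],
    by simp [h.y2]⟩ hμ
  obtain ⟨g, hg, hz⟩ := h.conj_xy
  have e2 : ε μ z ^ 2 = 4 := by
    have e3 := h.frH.T0_val (θ := cf1 (zpowers x) - μ) h.zA h.zA0
    have e4 : μ z * μ z = 1 := by rw [← (lin μ).map_mul h.zA h.zA, hμ.1.apply (mem_zpowers _)]
    have e5 := h.sg_mul hμ.1 h.zA
    rw [← Th, d.th μ hμ] at e3
    simp only [Pi.add_apply, Pi.sub_apply, cf1_apply (h.S_le (h.AS h.zA)), cf1_apply h.zA,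
      cf1_apply (h.yconj h.zA), az, ← h.sg_apply] at e3
    rw [show ε μ z = 2 * μ z by linear_combination -e3 + μ z * e5 - h.sg μ z * e4]
    linear_combination 4 * e4
  have e3 : (𝐂[x * y]).relIndex 𝐂[t] = 2 * (N0 ⊤ z).relIndex 𝐂[t] := by
    rw [← U4.relIndex_conj g, ← U4.cent1_conj, hz, U4.conj_eq_of_mem hg,
      ← relIndex_mul_relIndex _ _ _ ((le_inf le_top le_rfl).trans (h.cent_le (mem_zpowers z)))
        h.N0_le,
      relIndex_eq_two_iff_exists_notMem_and.2 ⟨y, h.SN h.yS, fun e => h.t1 (by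
        rw [← h.zz]
        nth_rewrite 1 [← U4.conj_eq_of_mem_cent1 e, h.yz]
        exact inv_mul_cancel z), fun b hb => ?_⟩]
    have h1 := conj_mem_of_mem_normalizer hb.2 (mem_zpowers z)
    rcases h.four_eq (zpowers_le.2 h.zA h1) (by
      rw [_root_.conj_mul, h.zz]; exact U4.conj_ne_one_iff.2 h.t1) (by
        simp only [_root_.conj_mul, h.zz, h.tt]; simp) with e | e
    · exact Or.inr (U4.mem_cent1_of_conj_eq e)
    · refine Or.inl (U4.mem_cent1_of_conj_eq ?_)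
      rw [show b * y * z * (b * y)⁻¹ = b * (y * z * y⁻¹) * b⁻¹ by group, h.yz, ← conj_inv, e, inv_inv]
  rw [← CF_conj d.da.mem_CF hg (x * y), ← CF_conj (d.de μ hμ).mem_CF hg (x * y), hz, az, e2, e3,
    kap, if_neg (by
      rintro ⟨k, -, e⟩
      exact U4.conj_ne_one_iff (g := k).2 h.t1 (by rw [← h.xy_sq, ← _root_.conj_mul, e, h.y2])),
    kap, if_pos ⟨1, one_mem _, by simp⟩, h.N0H] at f1
  rw [(h.vals_ε h.frH d hy (by rw [h.oy]; decide)).2 μ hμ, ay, h.kap_eq _ h.y2, kap,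
    if_pos ⟨1, one_mem _, by simp⟩, h.N0H] at f2
  have n3 : ((N0 ⊤ z).relIndex 𝐂[t] : ℂ) ≠ 0 := Nat.cast_ne_zero.2 index_ne_zero_of_finite
  rw [e1, hq] at f1 f2 n2
  rw [hq] at n1
  constructor <;> refine Int.cast_injective (α := ℂ) ?_ <;> push_cast at f1 f2 ⊢
  · field_simp at f1
    linear_combination f1
  · rw [add_neg_cancel, zero_pow two_ne_zero, zero_div, sub_zero] at f2
    field_simp at f2
    linear_combination f2

end SDh0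

namespace SDh0

variable {S : Subgroup G} {x y z t g : G} (h : SDh0 S x y z t) {l μ ν ν' : Irr (zpowers x)}
  {α β γ η φ : G → ℂ} {M : ℕ} {ε : Irr (zpowers x) → G → ℂ}
include h

theorem card_A : Nat.card (zpowers x) = (zpowers (z * z)).relIndex (zpowers x) * 2 := by
  rw [card_eq_relIndex_mul h.A0A, h.zz, card_zpowers_inv h.ot]

theorem four_dvd' : 4 ∣ (zpowers (z * z)).relIndex (zpowers x) := by
  have h1 := h.card_A
  rw [card_eq_relIndex_mul (sq_le x)] at h1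
  have h2 : 4 ∣ Nat.card (zpowers (x * x)) := by
    rw [← h.oz, Nat.card_zpowers]; exact orderOf_dvd_of_mem_zpowers h.zx
  rw [relIndex_eq_two_iff_exists_notMem_and.2 ⟨x⁻¹, inv_mem (mem_zpowers x),
    fun e => h.xA (inv_mem_iff.1 e), fun b hb => (mem_sq_or hb).symm⟩] at h1
  omega

theorem sg_ne (hν : ¬ Ev z ν) : ν ≠ h.sg ν := fun e => by
  have hx := mem_zpowers x
  have h1 : ν (x * x) = -1 := by
    rw [(lin ν).map_mul hx hx, ← h.odd_t hν, ← h.yx, (lin ν).map_mul (h.yconj hx) hx, ← h.sg_apply,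
      ← e]
  obtain ⟨n, hn⟩ := mem_powers_iff_mem_zpowers.2 h.zx
  have h2 := h.odd_t hν
  rw [← h.zz, (lin ν).map_mul h.zA h.zA, ← hn] at h2
  simp only at h2
  rw [(lin ν).map_pow (mul_mem hx hx), h1, ← mul_pow] at h2
  norm_num at h2

theorem odd_dot (d : Dec ⊤ y z l α β γ ε) (e : Eta ⊤ z ε η M) (hν : ¬ Ev z ν) (hν' : ¬ Ev z ν') :
    cfdot (zpowers x) α ν = cfdot (zpowers x) α ν' ∧ (cfdot (zpowers x) β ν =
      cfdot (zpowers x) β ν' ∨ ∀ g, ¬ 4 ∣ orderOf g → (β - γ) g = 0) := by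
  classical
  have h0 : ∀ a ∈ zpowers (z * z), ((ν : G → ℂ) - ν') a = 0 := fun a ha => by
    rcases h.A0_iff.1 ha with rfl | rfl
    · rw [Pi.sub_apply, (lin ν).one, (lin ν').one, sub_self]
    · rw [Pi.sub_apply, h.odd_t hν, h.odd_t hν', sub_self]
  have hz := T0_ZIrr h.AL (sub_mem ν.mem_ZIrr ν'.mem_ZIrr)
  have k0 : ∀ μ, Ev z μ → cfdot (zpowers x) ((ν : G → ℂ) - ν') μ = 0 := fun μ hμ => by
    rw [cfdot_sub_left, Irr.cfdot_eq, Irr.cfdot_eq, if_neg fun e : ν = μ => hν (e ▸ hμ),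
      if_neg fun e : ν' = μ => hν' (e ▸ hμ), sub_self]
  have k1 : ∀ φ, projB (B0 2 ⊤) φ = φ → ∀ n : ℤ, cfdot ⊤ (T0 (zpowers x) ⊤ (ν - ν')) φ = n →
      n = 0 → cfdot (zpowers x) φ ν = cfdot (zpowers x) φ ν' := fun φ hφ n hn e => by
    rw [cfdot_T0' h.AL hφ, e, Int.cast_zero] at hn
    rw [← sub_eq_zero, ← cfdot_sub_right, cfdot_symm_zero hn]
  obtain ⟨g1, g2⟩ := d.of_dot_Th (φ := T0 (zpowers x) ⊤ (ν - ν')) fun μ hμ => by
    rw [Th, h.cfdot_T0_T0 h0, map_sub, cfConjg_cf1 (inv_mem (h.normA h.yS))]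
    change cfdot _ _ (_ + (_ - (h.sg μ : G → ℂ))) = _
    simp only [cfdot_add_right, cfdot_sub_right, ← Irr.coe_one, k0 _ h.ev_one, k0 _ hμ,
      k0 _ (h.ev_sg hμ), sub_self, add_zero]
  have g0 : cfdot ⊤ (T0 (zpowers x) ⊤ (ν - ν')) (cf1 ⊤) = (0 : ℤ) := by
    rw [cfdot_T0' h.AL proj0_cf1, ← cfdot_cfRes_right, cfRes_cf1 h.AL, ← Irr.coe_one,
      k0 _ h.ev_one, Int.cast_zero]
  obtain ⟨b, hb⟩ := ZIrr_cfdot_int hz d.da.mem_ZIrr
  obtain ⟨c, hc⟩ := ZIrr_cfdot_int hz d.db.mem_ZIrr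
  obtain ⟨f, hf⟩ := ZIrr_cfdot_int hz d.dc.mem_ZIrr
  obtain ⟨n, hn2, hn⟩ : ∃ n : ℤ, n ≤ 2 ∧
      cfdot ⊤ (T0 (zpowers x) ⊤ (ν - ν')) (T0 (zpowers x) ⊤ (ν - ν')) = n := by
    rw [h.cfdot_T0_T0 h0, map_sub]
    change ∃ n : ℤ, _ ∧ cfdot _ _ (_ + ((h.sg ν : G → ℂ) - (h.sg ν' : G → ℂ))) = _
    simp only [cfdot_add_right, cfdot_sub_right, cfdot_sub_left, Irr.cfdot_eq, if_true,
      if_neg (h.sg_ne hν), if_neg (h.sg_ne hν')]
    refine ⟨2 - (if ν' = ν then 1 else 0) - (if ν = ν' then 1 else 0) -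
      (if ν' = h.sg ν then 1 else 0) - (if ν = h.sg ν' then 1 else 0), ?_, by push_cast; ring⟩
    split_ifs <;> norm_num
  rw [g0, hb] at g1 g2
  rw [hc, hf] at g1
  have g3 : 0 + b + c + f = 0 := by exact_mod_cast g1
  have g4 : ∀ μ, Gen z μ → cfdot ⊤ (T0 (zpowers x) ⊤ (ν - ν')) (ε μ) = b := by simpa using g2
  have g5 := d.bessel e g0 hb hc hf g4 hn
  have g6 := mul_le_mul_of_nonneg_right (d.M_pos e h.toFr) (sq_nonneg b)
  obtain rfl : b = 0 := by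
    by_contra e
    have : 1 ≤ b ^ 2 := by rcases (by omega : 1 ≤ b ∨ b ≤ -1) with e | e <;> nlinarith
    have : c = 0 := by nlinarith
    have : f = 0 := by nlinarith
    omega
  refine ⟨k1 α d.pa 0 hb rfl, (eq_or_ne c 0).imp (k1 β d.pb c hc) fun e' g hg => ?_⟩
  obtain rfl : f = -c := by omega
  have g7 : 1 ≤ c ^ 2 := by rcases (by omega : 1 ≤ c ∨ c ≤ -1) with e | e <;> nlinarith
  have g8 := d.pyth e g0 hb hc hf g4
  rw [cfnorm_eq_of_cfdot_eq (r := n) (by rw [hn]; simp), show (0 ^ 2 + 0 ^ 2 + c ^ 2 + (-c) ^ 2 +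
    M * 0 ^ 2 : ℤ) = n by nlinarith, right_eq_add] at g8
  have := apply_eq_zero_of_cfnorm g8 (mem_top g)
  rw [Pi.sub_apply, h.T0_four h.oz h0 hg] at this
  simp only [Pi.add_apply, Pi.smul_apply, smul_eq_mul] at this
  push_cast at this
  exact mul_left_cancel₀ (Int.cast_ne_zero.2 e') (by rw [Pi.sub_apply]; linear_combination -this)

variable [IsSimpleGroup G]

theorem charG : ∃ q a b : ℤ, q % 4 = 1 ∧ a % 4 = 1 ∧
    2 * (N0 ⊤ z).relIndex 𝐂[t] * (q - 1) ^ 2 = q * (q + 1) * (𝐂[x * y]).relIndex (N0 ⊤ z) ^ 2 ∧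
    (𝐂[y]).relIndex 𝐂[t] ^ 2 * (q + 1) =
      2 * (N0 ⊤ z).relIndex 𝐂[t] * q * (𝐂[y]).relIndex (N0 ⊤ z) ^ 2 ∧
    (𝐂[t]).index * (a - q) ^ 2 =
      a * (a + 1) * (2 * (N0 ⊤ z).relIndex 𝐂[t]) * (𝐂[y]).relIndex (N0 ⊤ z) ^ 2 ∧
    (a + q ^ 2) * (b + q ^ 2) = q ^ 2 * (q ^ 2 - 1) := by
  obtain ⟨q, M, Φ, hΦ, hM, hq, F1, F2⟩ := h.charH
  obtain ⟨l, α, β, γ, ε, d⟩ := h.exists_dec
  obtain ⟨η, M', e⟩ := d.exists_eta h.toFr
  obtain rfl : M = M' := by have := e.card; omega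
  have M1 := d.M_pos e h.toFr
  have dval : ∀ φ, IsDirr ⊤ φ → projB (B0 2 ⊤) φ = φ → ∃ a b : ℤ,
      cfdot ⊤ (Psi t (Φ 1 0)) φ = a ∧ cfdot ⊤ (Psi t (Φ 0 1)) φ = b ∧
      cfdot ⊤ (Psi t (Φ 1 (-1))) φ = (a - b : ℤ) ∧ φ t = a + q * b := fun φ hφ hp => by
    obtain ⟨f, h1, h2, h3, h4⟩ := exists_sym h.ot hφ.mem_CF hp
    obtain ⟨a, ha⟩ := ZIrr_cfdot_int ((hΦ.sym 1 0).Psi_mem h.ot (hΦ.zirr _ _)) hφ.mem_ZIrr
    obtain ⟨b, hb⟩ := ZIrr_cfdot_int ((hΦ.sym 0 1).Psi_mem h.ot (hΦ.zirr _ _)) hφ.mem_ZIrr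
    refine ⟨a, b, ha, hb, ?_⟩
    rw [(hΦ.sym _ _).cfdot_Psi h.ot hφ.mem_CF h2.tr h3] at ha hb ⊢
    exact ⟨by rw [hΦ.sub, cfdot_sub_left, ha, hb, Int.cast_sub], h4 ▸ hΦ.val f h1 h2 a b ha hb⟩
  have zero : ∀ a b φ, φ ∈ CF ⊤ → (∀ g, ¬ 4 ∣ orderOf g → φ g = 0) →
      cfdot ⊤ (Psi t (Φ a b)) φ = 0 := fun a b φ hφ h0 => by
    rw [(hΦ.sym a b).cfdot_Psi h.ot hφ (ψ := 0) (fun _ => rfl)
      fun g hg => h0 g (not_four_dvd_of_mem_secT h.ot hg), cfdot_zero_right]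
  have bes : ∀ a b p u v : ℤ, cfdot ⊤ (Psi t (Φ a b)) α = p → cfdot ⊤ (Psi t (Φ a b)) β = u →
      cfdot ⊤ (Psi t (Φ a b)) γ = v → a + p + u + v = 0 ∧ a ^ 2 + p ^ 2 + u ^ 2 + v ^ 2 +
        M * (a + p) ^ 2 ≤ 2 * (2 * a ^ 2 + 2 * b ^ 2 + M * (a + b) ^ 2) := fun a b p u v h1 h2 h3 => by
    have h0 : cfdot ⊤ (Psi t (Φ a b)) (cf1 ⊤) = a := by
      rw [(hΦ.sym a b).cfdot_Psi h.ot cf1_mem_CF Q8Hyp.cf1_tr fun g hg => by
        rw [cf1_apply (mem_top g), cf1_apply (secT_subset hg)], hΦ.one]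
    obtain ⟨g1, g2⟩ := d.of_dot_Th fun μ hμ => zero a b _ T0_mem_CF fun g => h.Th_four h.toFr hμ
    rw [h0, h1] at g1 g2
    rw [h2, h3] at g1
    exact ⟨by exact_mod_cast g1, d.bessel e h0 h1 h2 h3 (by simpa using g2)
      (by rw [(hΦ.sym a b).Psi_Psi h.ot (hΦ.zirr a b), hΦ.norm]; push_cast; ring)⟩
  obtain ⟨p, r, a1, a2, a3, a4⟩ := dval α d.da d.pa
  obtain ⟨b1, b2, c1, c2, c3, c4⟩ := dval β d.db d.pb
  obtain ⟨g1, g2, d1, d2, d3, d4⟩ := dval γ d.dc d.swap.pb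
  obtain ⟨s1, t1⟩ := bes _ _ _ _ _ a1 c1 d1
  obtain ⟨s2, t2⟩ := bes _ _ _ _ _ a2 c2 d2
  obtain ⟨-, t3⟩ := bes _ _ _ _ _ a3 c3 d3
  have hint : ∀ φ, IsDirr ⊤ φ → ∀ ν : Irr (zpowers x), ∃ n : ℤ, cfdot (zpowers x) φ ν = n :=
    fun φ hφ ν => cfdot_cfRes_left (φ := φ) ▸
      ZIrr_cfdot_int (ZIrr_cfRes le_top hφ.mem_ZIrr) ν.mem_ZIrr
  obtain ⟨ca, hca⟩ := exists_const (hint α d.da) fun _ _ h1 h2 => (h.odd_dot d e h1 h2).1
  obtain ⟨-, ka, va, ea⟩ := h.val d.da.mem_ZIrr d.pa h.ev_one (fun _ => d.dot_a) hca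
  have va := va t h.tA0 h.t1
  rw [← hM, a4] at va
  obtain ⟨j, hj⟩ := hq
  obtain ⟨rfl, rfl⟩ := sd_bessel_a M1 (by linarith) (by linarith) s1 s2 ⟨ka - j * r, by
    have : p + q * r = 1 + ka * (2 * M + 2) := by exact_mod_cast va
    linear_combination this - r * hj⟩
  obtain ⟨cb, hcb⟩ := exists_const (hint β d.db) fun _ _ h1 h2 =>
    (h.odd_dot d e h1 h2).2.resolve_right fun h3 => by
      have := zero 1 0 _ (sub_mem d.db.mem_CF d.dc.mem_CF) h3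
      rw [cfdot_sub_right, c1, d1, sub_eq_zero, Int.cast_inj] at this
      omega
  obtain ⟨-, kb, vb, -⟩ := h.val d.db.mem_ZIrr d.pb d.ev (fun _ => d.dot_b) hcb
  have vb := vb t h.tA0 h.t1
  rw [← hM, c4] at vb
  have key := sd_bessel_b M1 (by linarith) (by linarith) (c1 := g1) (c2 := g2)
    (by nlinarith) s1 s2 ⟨kb - j * b2, by
      have : b1 + q * b2 = -1 + kb * (2 * M + 2) := by exact_mod_cast vb
      linear_combination this - b2 * hj⟩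
  obtain ⟨n, hn⟩ := h.four_dvd'
  obtain ⟨μ, hμ⟩ := h.exists_gen
  have hu : Refl ⊤ z t := ⟨mem_top t, h.t1, h.tt ▸ one_mem _, by simp [h.tt], by simp [h.tt]⟩
  have f1 := d.formula_gen h.toFr hu hμ
  have e1 := h.vals_ε h.toFr d (mem_top 1) (by simp)
  have n1 := d.da.one_ne_zero
  have n2 := (d.de μ hμ).one_ne_zero
  have n3 : ((𝐂[t]).index : ℂ) ≠ 0 := Nat.cast_ne_zero.2 index_ne_zero_of_finite
  have fin : ∀ β γ : G → ℂ, Dec ⊤ y z l α β γ ε → β t = -q → γ t = -1 → 1 + α 1 + β 1 + γ 1 = 0 →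
      ∃ b : ℤ, (α 1 + q ^ 2) * (b + q ^ 2) = q ^ 2 * (q ^ 2 - 1) := fun β γ d h1 h2 h3 => by
    have f2 := d.formula_l h.toFr hu
    obtain ⟨b, hb⟩ := ZIrr_one_int d.db.mem_ZIrr
    have n4 := d.db.one_ne_zero
    have n5 := d.dc.one_ne_zero
    have n6 : α 1 + β 1 ≠ 0 := fun e => by
      obtain ⟨N, hN, h4, h5⟩ := exists_normal_of_dirr d.dc d.c1 (t := t) (by linear_combination h2 - h3 + e)
      exact h.t1 (mem_bot.1 ((hN.eq_bot_or_eq_top.resolve_right h4) ▸ h5))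
    rw [h.kap_eq _ h.tt, relIndex_top_right, a4, h1, h2,
      show γ 1 = -(1 + α 1 + β 1) by linear_combination h3] at f2
    rw [show γ 1 = -(1 + α 1 + β 1) by linear_combination h3, neg_ne_zero] at n5
    refine ⟨b, mul_left_cancel₀ n6 ?_⟩
    push_cast at f2
    rw [mul_zero, mul_zero, mul_eq_zero, or_iff_right (pow_ne_zero 2 n3)] at f2
    field_simp at f2
    rw [← hb]
    linear_combination f2
  obtain ⟨b, hb⟩ : ∃ b : ℤ, (α 1 + q ^ 2) * (b + q ^ 2) = q ^ 2 * (q ^ 2 - 1) := by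
    rcases key with ⟨rfl, rfl, rfl, rfl⟩ | ⟨rfl, rfl, rfl, rfl⟩
    · exact fin β γ d (by simpa using c4) (by simpa using d4) e1.1
    · exact fin γ β d.swap (by simpa using d4) (by simpa using c4) (by linear_combination e1.1)
  rw [h.card_A, hn] at ea
  have ea' : α 1 = (1 + 4 * (ka * n + 2 * ca * n) : ℤ) := by push_cast at ea ⊢; linear_combination ea
  rw [(h.vals_ε h.toFr d (mem_top t) (by rw [h.ot]; decide)).2 μ hμ, e1.2 μ hμ, a4,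
    h.kap_eq _ h.tt, kap, if_pos (by simpa using h.conj_t h.oy), relIndex_top_right,
    relIndex_top_right, ← relIndex_mul_index h.N0_le] at f1
  rw [e1.2 μ hμ] at n2
  rw [ea'] at f1 n1 n2 hb
  have hq4 : q % 4 = 1 := by
    have : (2 * M + 2 : ℤ) = 4 * n := by exact_mod_cast hM.trans hn
    rw [this, mul_assoc] at hj
    omega
  refine ⟨q, 1 + 4 * (ka * n + 2 * ca * n), b, hq4, by omega, F1, F2, ?_, by exact_mod_cast hb⟩
  generalize 1 + 4 * (ka * n + 2 * ca * n) = a at f1 n1 n2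
  refine Int.cast_injective (α := ℂ) ?_
  push_cast at f1 ⊢
  field_simp at f1
  linear_combination f1

end SDh0

end CfsgLib.SW
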