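import Cfsg.Agent.Lib.Hom.SDc

/-!
# The semidihedral case under `OW`: the contradiction (adapted from `SW/SD4.lean`)
-/

set_option autoImplicit false

namespace CfsgLib.SW

open Subgroup Cfsg CfsgLib.FT CfsgLib.FT.BGN CfsgLib.Blk CfsgLib.GW CfsgLib.Hom
open scoped commutatorElement ComplexConjugate

variable {G : Type*} [Group G] [Finite G]

namespace SDh0

variable {S : Subgroup G} {x y z t ρ s : G} (h : SDh0 S x y z t) {r : ℕ}
include h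

theorem dvd_W (hs : s ∈ S) (hsA : s ∉ zpowers x) (hr : r.Prime) (h2 : r ≠ 2)
    (hd : r ∣ (𝐂[s]).relIndex (N0 ⊤ z)) : r ∣ (𝐂[s]).relIndex (Od (N0 ⊤ z)) := by
  obtain ⟨k, hk⟩ := IsPGroup.iff_card.1 h.pA
  have := hd.mul_left 2
  rw [h.relIndex_cent hs hsA, hk] at this
  exact (((Nat.coprime_primes hr Nat.prime_two).2 h2).pow_right k).dvd_of_dvd_mul_right this

variable [IsSimpleGroup G]

theorem not_dvd_nz (hr : r.Prime) (h2 : r ≠ 2) (hd : r ∣ (𝐂[x * y]).relIndex (N0 ⊤ z)) :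
    ¬ r ∣ (N0 ⊤ z).relIndex 𝐂[t] := by
  have := Fact.mk hr
  have h1 := h.dvd_W h.xyS h.xyA hr h2 hd
  obtain ⟨P, hP, hS, ρ, hρ, hρo, hc, -, h5⟩ := h.exists_rho hr (h1.trans (relIndex_dvd_card _ _))
  have h3 : x * y ∉ S ⊓ 𝐂[ρ] := fun e => by
    obtain ⟨k, hk⟩ := orderOf_eq_pow_of_mem_isPGroup h.syl.isPGroup h.xyS
    have := h.oc.cent_of_fix hr h2 hP.isPGroup (hS h.xyS)
      (hk ▸ ((Nat.coprime_primes Nat.prime_two hr).2 h2.symm).pow_left k) hc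
      (fun e => by rw [e, orderOf_one] at hρo; exact hr.one_lt.ne hρo)
      (hρo ▸ pow_orderOf_eq_one ρ) (U4.conj_eq_of_mem_cent1 e.2)
    exact hP.not_dvd (h1.trans (relIndex_dvd_of_le_left _
      (U4.cent_zpowers (x * y) ▸ le_centralizer_iff.1 (zpowers_le.2 this))))
  have h4 := h.norm_T inf_le_left (le_inf ((sq_le x).trans h.AS) (h.sq_cent1 (hP.le hρ))) h3
  exact fun e => h.oc.not_dvd hr h2 Nat.prime_two h2.symm hρo (h.N0_le (Od_le _ (hP.le hρ)))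
    (h5.mono (le_inf (inf_le_left.trans h.S_le) inf_le_right) inf_le_right)
    (e.trans (relIndex_dvd_of_le_left _ (inf_le_right.trans h4)))

theorem ne_two (hr : r ∣ (𝐂[t]).index) : r ≠ 2 := fun e => by
  rw [e] at hr
  exact absurd (h.odd_index.of_dvd_nat (hr.trans (index_dvd_of_le h.S_le))) (by decide)

theorem not_dvd_W (hr : r.Prime) (hd : r ∣ (𝐂[t]).index) : ¬ r ∣ Nat.card (Od (N0 ⊤ z)) :=
  fun e => by
    obtain ⟨ρ, hρ, hρo⟩ := exists_orderOf hr e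
    obtain ⟨-, -, b, h4, -, h5⟩ := h.lv.near_hall hr (h.ne_two hd) hρo h.ot
      (h.N0_le (Od_le _ hρ)) hd
    obtain ⟨g, -, hg⟩ := h5.exists_conj_le (h.pA.to_le (zpowers_le.2 h.zA))
      (zpowers_le.2 (U4.mem_cent1_comm.1 (h.W_cent hρ)))
    have := h4.mul_self_of_mem (hg (U4.conj_mem_conj_iff.2 (mem_zpowers z)))
    rw [_root_.conj_mul, h.zz] at this
    exact U4.conj_ne_one_iff.2 h.t1 this

theorem card_CV {b : G} (h4 : Four t b) : Nat.card 𝐂(V t b) = Nat.card 𝐂(V t y) := by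
  have := Fintype.ofFinite G
  obtain ⟨g, hg, e⟩ := h.frH.syl.exists_conj_le (isPGroup_zpowers_inv h4.os) (zpowers_le.2 h4.s_cent)
  have e := e (U4.conj_mem_conj_iff.2 (mem_zpowers b))
  have h5 := h4.conj g
  rw [U4.conj_eq_of_mem_cent1 hg] at h5
  obtain ⟨c, hc, e' | e'⟩ := h.conj_cases' e fun e =>
    h5.ne ((h.uniq e h5.ss).resolve_left h5.s1).symm
  · rw [← card_map_conj g, ← centralizer_map_conj, ← V_conj, ← e', ← card_map_conj c (𝐂(V t y)),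
      ← centralizer_map_conj, ← V_conj, U4.conj_eq_of_mem_cent1 hg,
      U4.conj_eq_of_mem_cent1 (h.S_le hc)]
  · exact absurd (by rw [← h.xy_sq, ← _root_.conj_mul, e', h5.ss]) (U4.conj_ne_one_iff (g := c).2 h.t1)

theorem W_eq_bot (h1 : Od (N0 ⊤ z) ≤ 𝐂[y]) (h2 : 3 ∣ (𝐂[t]).index)
    (h3 : 3 ∣ Nat.card 𝐂(V t y)) : Od (N0 ⊤ z) = ⊥ := by
  by_contra hW
  have := Fintype.ofFinite G
  have p3 := Nat.prime_three
  have h4 := h.four
  obtain ⟨r, hr, hd⟩ := U4.exists_prime_dvd_card hW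
  obtain ⟨P, hP, -, ρ, hρ, hρo, -, hn, hT⟩ := h.exists_rho hr hd
  have hρ := hP.le hρ
  have r2 : r ≠ 2 := fun e => absurd ((odd_Od _).of_dvd_nat (e ▸ hd)) (by decide)
  have r3 : r ≠ 3 := fun e => h.not_dvd_W p3 h2 (e ▸ hd)
  have r5 : 5 ≤ r := by
    have := hr.two_le
    have : r ≠ 4 := fun e => by rw [e] at hr; exact absurd hr (by decide)
    omega
  have ρ1 : ρ ≠ 1 := fun e => by rw [e, orderOf_one] at hρo; omega
  obtain ⟨u, hu, -, ⟨i, hi⟩, e, e'⟩ := h.lv.exists_three h4 hr r5 hρo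
    (cent_V t y ▸ ⟨h.N0_le (Od_le _ hρ), h1 hρ⟩)
  obtain ⟨σ, hσ, hσo⟩ := exists_orderOf p3 (H := zpowers u) (by
    rw [Nat.card_zpowers, hi]
    refine dvd_pow_self 3 fun e' => h4.s1 ?_
    rw [e', pow_zero, orderOf_eq_one_iff] at hi
    simpa [hi] using e)
  have hσ := zpowers_le.2 hu hσ
  obtain ⟨τ, hτ, hτo⟩ := exists_orderOf p3 h3
  obtain ⟨φ, hφ⟩ := h.oc.cj τ σ (by rw [hτo]; decide) (hτo.trans hσo.symm)
  have oa : orderOf (φ t) = 2 := (φ.orderOf_eq t).trans h.ot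
  have ha : σ ∈ 𝐂[φ t] := U4.mem_cent1.2 (by
    rw [← hφ, ← map_mul, ← map_mul, U4.mem_cent.1 hτ t (t_mem_V t y)])
  generalize φ t = a at oa ha
  obtain ⟨-, -, b, h5, -, h6⟩ := h.lv.near_hall p3 (by norm_num) hσo oa ha
    (h.lv.index_eq h.ot oa ▸ h2)
  have h7 : ρ ∈ 𝐂(V a b) := by
    refine zpowers_le.2 ?_ (mem_zpowers_pow_iff.2 (show Nat.Coprime 6 (orderOf ρ) from hρo ▸
      Nat.Coprime.mul_left ((Nat.coprime_primes Nat.prime_two hr).2 r2.symm)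
        ((Nat.coprime_primes p3 hr).2 r3.symm)))
    have := normal_subgroupOf_of_le_normalizer (H5.normalizer_le_normalizer_centralizer' (V a b))
    exact h.lv.relIndex_six h5 ▸ pow_index_mem (H := (𝐂(V a b)).subgroupOf 𝐍(V a b))
      ⟨ρ, h.lv.norm_le_norm_V h5 hσo h6 (U4.cent_le_norm _
        (U4.cent_zpowers σ ▸ U4.mem_cent1_comm.1 hσ))⟩
  have hnc : 𝐍(zpowers ρ) ≤ 𝐍(𝐂[ρ]) :=
    U4.cent_zpowers ρ ▸ H5.normalizer_le_normalizer_centralizer' _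
  obtain ⟨n, hn', e1⟩ : ∃ n ∈ 𝐍(𝐂[ρ]), n * a * n⁻¹ = t := by
    obtain ⟨g, hg, h8⟩ := hT.exists_conj_le (isPGroup_zpowers_inv oa)
      (zpowers_le.2 (U4.mem_cent1_comm.1 (U4.cent_le_cent1 (t_mem_V a b) h7)))
    have h8 := (h8 (U4.conj_mem_conj_iff.2 (mem_zpowers a))).1
    have h9 := h5.conj g
    by_cases e : g * a * g⁻¹ ∈ zpowers x
    · exact ⟨g, le_normalizer hg, (h.uniq e h9.tt).resolve_left h9.t1⟩
    obtain ⟨c, hc, e | e⟩ := h.conj_cases' h8 e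
    · refine ⟨u * c⁻¹ * g, mul_mem (mul_mem (le_normalizer hu) (inv_mem (hnc (hn hc))))
        (le_normalizer hg), ?_⟩
      rw [show u * c⁻¹ * g * a * (u * c⁻¹ * g)⁻¹ = u * (c⁻¹ * (g * a * g⁻¹) * c) * u⁻¹ by group,
        ← e, ← e']
      group
    · exact absurd (by rw [← h.xy_sq, ← _root_.conj_mul, e, h9.tt])
        (U4.conj_ne_one_iff (g := c).2 h.t1)
  have f : Fr (𝐂[t] ⊓ 𝐂[ρ]) (S ⊓ 𝐂[ρ]) (x * x) y t :=
    ⟨hT.mono (inf_le_inf_right _ h.S_le) inf_le_right,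
      ⟨mul_mem h.xS h.xS, h.sq_cent1 hρ (mem_zpowers _)⟩, ⟨h.yS, U4.mem_cent1_comm.1 (h1 hρ)⟩,
      fun e => h.yA (sq_le x e),
      fun s hs => h.two_cases hρ ρ1 h.yS h.yA (U4.mem_cent1_comm.1 (h1 hρ)) hs.1 hs.2, by
        obtain ⟨j, hj⟩ := h.zx
        exact ⟨j, by rw [← h.zz, ← hj]; exact (Commute.refl (x * x)).mul_zpow j⟩,
      h.t1, by simp [h.inv2], by simp [h.y2]⟩
  have g1 := f.nilp
  rw [show N0 (𝐂[t] ⊓ 𝐂[ρ]) t = 𝐂[t] ⊓ 𝐂[ρ] from inf_eq_left.2 (inf_le_left.trans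
    ((U4.cent_zpowers t).ge.trans (U4.cent_le_norm _)))] at g1
  have g0 : orderOf (n * σ * n⁻¹) = 3 := by rw [U4.orderOf_conj, hσo]
  have g2 := g1 (n * σ * n⁻¹) ⟨by rw [← e1, U4.cent1_conj]; exact U4.conj_mem_conj_iff.2 ha,
    conj_mem_of_mem_normalizer hn' hσ⟩ (by rw [g0]; decide)
  have g3 := h.sq_cent0 h.oc h.y2 (odd_Od (𝐂[t] ⊓ 𝐂[ρ])) (((le_inf (h.S_le.trans le_normalizer)
    (hn.trans hnc)).trans inf_normalizer_le_normalizer_inf).trans (norm_le_norm_Od _)) h.zx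
  have g4 := h.nilp _ (h.cent_le (mem_zpowers z) ⟨mem_top _, U4.mem_cent1.2
    (U4.mem_cent.1 g3 _ g2)⟩) (by rw [g0]; decide)
  exact h.not_dvd_W p3 h2 (g0 ▸ Subgroup.orderOf_dvd_natCard _ g4)

theorem false : False := by
  have := Fintype.ofFinite G
  obtain ⟨q, a, b, hq, ha, F1, F2, E1, E2⟩ := h.charG
  have p1 : 0 < (𝐂[x * y]).relIndex (N0 ⊤ z) := Nat.pos_of_ne_zero index_ne_zero_of_finite
  have p2 : 0 < (𝐂[y]).relIndex (N0 ⊤ z) := Nat.pos_of_ne_zero index_ne_zero_of_finite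
  have o1 : ¬ 2 ∣ (N0 ⊤ z).relIndex 𝐂[t] := fun e =>
    h.frH.syl.not_dvd (e.trans (relIndex_dvd_of_le_left _ h.SN))
  have q0 : q ≠ 0 := by omega
  have q1 : q + 1 ≠ 0 := by omega
  obtain ⟨k, hk, hn⟩ := sd_nz hq (by rintro rfl; nlinarith) F1
  obtain ⟨j, hj⟩ : 2 ∣ q + 1 := by omega
  have hn' : ((N0 ⊤ z).relIndex 𝐂[t] : ℤ) = q * j * k ^ 2 :=
    mul_left_cancel₀ two_ne_zero (by rw [hn, hj]; ring)
  have k1 : k ^ 2 = 1 := by
    rw [← Int.natAbs_sq, (Nat.eq_one_iff_not_exists_prime_dvd (n := k.natAbs)).2 fun r hr hd => ?_]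
    · simp
    have h1 : r ∣ (N0 ⊤ z).relIndex 𝐂[t] := Int.natCast_dvd_natCast.1
      (hn' ▸ ((Int.natCast_dvd.2 hd).trans (dvd_pow_self k two_ne_zero)).mul_left _)
    exact h.not_dvd_nz hr (fun e => o1 (e ▸ h1))
      (Int.natCast_dvd_natCast.1 (hk ▸ (Int.natCast_dvd.2 hd).mul_left _)) h1
  rw [k1, mul_one] at hn hn'
  have c1 := card_eq_relIndex_mul h.N0_le
  have c2 := card_eq_relIndex_mul (inf_le_left : 𝐂[t] ⊓ 𝐂[y] ≤ _)
  have c3 := card_eq_relIndex_mul (inf_le_left : N0 ⊤ z ⊓ 𝐂[y] ≤ _)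
  rw [inf_relIndex_left, ← cent_V] at c2
  rw [inf_relIndex_left, ← U4.IsComplIn.card_mul (U4.IsComplIn.cent1 h.compl
    (h.SN.trans (le_norm_Od _)) h.yS), h.card_cent h.yS h.yA] at c3
  have c4 : (Nat.card 𝐂(V t y) : ℤ) ^ 2 = (2 * (q + 1) * Nat.card ↥(Od (N0 ⊤ z) ⊓ 𝐂[y])) ^ 2 := by
    rw [c3, c2] at c1
    zify at c1
    rw [hn] at F2
    have h1 : ((𝐂[y]).relIndex 𝐂[t] : ℤ) ^ 2 = (q * (𝐂[y]).relIndex (N0 ⊤ z)) ^ 2 :=
      mul_right_cancel₀ q1 (by linear_combination F2)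
    refine mul_left_cancel₀ (show (q * (𝐂[y]).relIndex (N0 ⊤ z)) ^ 2 ≠ 0 by positivity) ?_
    nth_rewrite 1 [← h1]
    rw [← mul_pow, c1, hn', hj]
    ring
  have key : ∀ r : ℕ, r.Prime → r ∣ (𝐂[t]).index → (r : ℤ) ∣ q * j →
      r = 3 ∧ ¬ 9 ∣ (𝐂[t]).index ∧ 3 ∣ q + 1 := fun r hr h1 h2 => by
    obtain ⟨ρ, hρ, hρo⟩ := exists_orderOf hr (H := 𝐂[t])
      (c1 ▸ (Int.natCast_dvd_natCast.1 (hn' ▸ h2)).mul_right _)
    obtain ⟨rfl, h3, v, h4, h5, -⟩ := h.lv.near_hall hr (h.ne_two h1) hρo h.ot hρ h1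
    refine ⟨rfl, h3, ?_⟩
    have h6 := hρo ▸ Subgroup.orderOf_dvd_natCard _ h5
    rw [h.card_CV h4, ← Int.natCast_dvd_natCast] at h6
    have h7 := Int.prime_three.dvd_of_dvd_pow (c4 ▸ h6.trans (dvd_pow_self _ two_ne_zero))
    rcases Int.prime_three.dvd_mul.1 h7 with e | e
    · omega
    · exact absurd ((Int.natCast_dvd_natCast.1 e).trans (card_dvd_of_le inf_le_left))
        (h.not_dvd_W hr h1)
  have key2 : ∀ s ∈ S, s ∉ zpowers x → ∀ r : ℕ, r.Prime → r ∣ (𝐂[t]).index →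
      ¬ (r : ℤ) ∣ (𝐂[s]).relIndex (N0 ⊤ z) := fun s hs hsA r hr h1 h2 => h.not_dvd_W hr h1
    ((h.dvd_W hs hsA hr (h.ne_two h1) (Int.natCast_dvd_natCast.1 h2)).trans (relIndex_dvd_card _ _))
  have r1 := h.relIndex_cent h.yS h.yA
  have r2 := h.relIndex_cent h.xyS h.xyA
  have r3 := h.card_A
  obtain ⟨n, hn4⟩ := h.four_dvd'
  rw [hn4] at r3
  rw [hn] at E1
  obtain ⟨m4, q3, hi⟩ := sd_arith hq ha (by exact_mod_cast p2) (by
      rw [r3] at r1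
      exact Int.natCast_dvd_natCast.2 ⟨(𝐂[y]).relIndex (Od (N0 ⊤ z)) * n, by linarith⟩)
    (isCoprime_of_nat fun r hr h1 h2 => by
      obtain ⟨rfl, -, h3⟩ := key r hr h1 (h2.mul_right _)
      omega)
    (isCoprime_of_nat fun r hr h1 h2 => key2 _ h.xyS h.xyA r hr h1 (hk ▸ h2.mul_right _))
    (isCoprime_of_nat (key2 _ h.yS h.yA)) (fun f h1 h2 => by
      have h3 : ∀ r : ℕ, r.Prime → r ∣ f.natAbs → r = 3 ∧ ¬ 9 ∣ (𝐂[t]).index := fun r hr hd => by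
        have h4 := Int.natCast_dvd_natCast.1 ((Int.natCast_dvd.2 hd).trans h1)
        have h5 := (Int.natCast_dvd.2 hd).trans h2
        rw [hj] at h5
        refine (key r hr h4 (Dvd.dvd.mul_left ?_ q)).imp_right And.left
        exact (Nat.isCoprime_iff_coprime.2 ((Nat.coprime_primes hr Nat.prime_two).2
          (h.ne_two h4))).dvd_of_dvd_mul_left h5
      have h4 := Nat.eq_prime_pow_of_unique_prime_dvd (p := 3)
        (Int.natAbs_ne_zero.2 fun e : f = 0 => q1 (by simpa [e] using h2)) fun hr hd => (h3 _ hr hd).1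
      generalize f.natAbs.primeFactorsList.length = c at h4
      rw [← Int.natAbs_dvd_natAbs, h4]
      rcases c with _ | _ | c
      · simp
      · simp
      · refine absurd (Dvd.dvd.trans ⟨3 ^ c, by rw [h4]; ring⟩ (Int.natAbs_dvd_natAbs.2 h1))
          (h3 3 Nat.prime_three ⟨3 ^ (c + 1), by rw [h4]; ring⟩).2) E1 E2
  have m4' : (𝐂[y]).relIndex (N0 ⊤ z) = 4 := by exact_mod_cast m4
  rw [m4', r3] at r1
  have r4 : (𝐂[y]).relIndex (Od (N0 ⊤ z)) * n = 1 := by linarith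
  obtain rfl := Nat.eq_one_of_mul_eq_one_left r4
  have i3 : 3 ∣ (𝐂[t]).index := Int.natCast_dvd_natCast.1
    (hi ▸ Dvd.dvd.mul_right (by omega : (3 : ℤ) ∣ 4 * q + 1) _)
  have hW := h.W_eq_bot (relIndex_eq_one.1 (by omega)) i3 (Int.natCast_dvd_natCast.1
    (Int.prime_three.dvd_of_dvd_pow (c4 ▸ ((q3.mul_left 2).mul_right _).trans
      (dvd_pow_self _ two_ne_zero))))
  rw [hW, relIndex_bot_right, r3] at r2
  rw [hW, bot_inf_eq, card_bot] at c3 c4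
  obtain rfl : q = 5 := by
    rcases sq_eq_one_iff.1 k1 with rfl | rfl <;> omega
  have c5 : Nat.card 𝐂(V t y) = 12 := by
    refine Nat.pow_left_injective two_ne_zero ?_
    exact_mod_cast c4
  rw [c3, show (N0 ⊤ z).relIndex 𝐂[t] = 15 by omega, m4'] at c1
  obtain ⟨ρ, hρ, hρo⟩ := exists_orderOf Nat.prime_three (H := 𝐂[t]) (by omega)
  obtain ⟨-, -, v, h4, -, h6⟩ := h.lv.near_hall Nat.prime_three (by norm_num) hρo h.ot hρ i3
  have g0 := index_mul_card 𝐂[t]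
  rw [c1] at g0
  have g1 := h.lv.index_norm_V h4 hρo h6 (h.card_CV h4 ▸ c5) (by omega) (by omega)
  have g2 := index_mul_card 𝐂(V t v)
  rw [← index_mul_card 𝐂[t], h.card_CV h4, c5, c1, ← relIndex_mul_index (U4.cent_le_norm _),
    h.lv.relIndex_six h4] at g2
  omega

end SDh0

end CfsgLib.SW
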