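import Cfsg.Agent.Lib.Hom.SplitB
import Cfsg.Agent.Lib.Hom.SplitA

/-!
# Nonsolvable homogeneous groups split
-/

set_option autoImplicit false

namespace CfsgLib.Hom

open Subgroup Cfsg CfsgLib.FT CfsgLib.FT.BGN Matrix MatrixGroups

universe u

theorem exists_char_quasi {G : Type u} [Group G] [Finite G] (hG : Hm G)
    (hns : ¬ Group.IsSolvable G) : ∃ L : Subgroup G, L.Characteristic ∧ IsQuasisimple L :=
  exists_char_quasi' hG hns

end CfsgLib.Hom
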