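import Cfsg.Agent.Lib.Hom.Main

/-!
# A characteristic quasisimple subgroup of a homogeneous group is a direct factor
-/

set_option autoImplicit false

namespace CfsgLib.Hom

open Subgroup Cfsg CfsgLib.FT CfsgLib.FT.BGN Matrix MatrixGroups

universe u

theorem sq_of_equiv {X Y : Type*} [Group X] [Group Y] (e : X ≃* Y)
    (h : ∀ α : MulAut Y, ∃ g, (MulAut.conj g * α) ^ 2 = 1) (α : MulAut X) :
    ∃ g, ∀ x, g * α (g * α x * g⁻¹) * g⁻¹ = x := by
  obtain ⟨g, hg⟩ := h ((e.symm.trans α).trans e)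
  refine ⟨e.symm g, fun x => e.injective ?_⟩
  have := congrArg (fun β : MulAut Y => β (e x)) hg
  simpa [sq] using this

theorem quasi_props {L : Type u} [Group L] [Finite L] (hG : Hm L) (hq : IsQuasisimple L) :
    (∀ α : MulAut L, ∃ g, ∀ x, g * α (g * α x * g⁻¹) * g⁻¹ = x) ∧
      (∀ z ∈ center L, z * z = 1) ∧ (center L ≠ ⊥ → ∃ t : L, orderOf t = 4) := by
  by_cases hs : IsSimpleGroup L
  · obtain ⟨p, _, hp, ⟨e⟩⟩ := simple_hm (fun h => isQuasisimple_center_ne_top hq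
      (eq_top_iff.2 fun x _ => mem_center_iff.2 fun y => h.is_comm.comm y x)) hG
    have hz : center L = ⊥ := (inferInstance : (center L).Normal).eq_bot_or_eq_top.resolve_right
      (isQuasisimple_center_ne_top hq)
    exact ⟨sq_of_equiv e (aut_psl_sq (by omega)), fun z hz' => by simp [mem_bot.1 (hz.le hz')],
      fun h => (h hz).elim⟩
  · have : Fact (Nat.Prime 5) := ⟨by norm_num⟩
    have : Fact (Nat.Prime 2) := ⟨Nat.prime_two⟩
    obtain ⟨e⟩ := quasi_hm hG hq hs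
    refine ⟨sq_of_equiv e (aut_sl_sq le_rfl), fun z hz => e.injective ?_, fun _ => ?_⟩
    · rw [map_mul, map_one, ← sq]
      refine H5.SL2_sq_eq_one_of_mem_center (mem_center_iff.2 fun y => ?_)
      obtain ⟨y, rfl⟩ := e.surjective y
      rw [← map_mul, mem_center_iff.1 hz, map_mul]
    · let x : SL(2, ZMod 5) := ⟨!![0, -1; 1, 0], by simp [det_fin_two]⟩
      have h1 : x ^ 2 = -1 := by
        rw [sq]; exact JR.sq_of_trace (add_zero (0 : ZMod 5))
      refine ⟨e.symm x, (MulEquiv.orderOf_eq _ _).trans (orderOf_eq_prime_pow (p := 2) (n := 1)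
        (by rw [pow_one, h1]; exact JR.neg_one_ne (two_ne le_rfl)) ?_)⟩
      rw [pow_succ, pow_mul, pow_one, h1]; simp

variable {G : Type u} [Group G] [Finite G] {L : Subgroup G}

theorem Hm.mem_char (hG : Hm G) [hL : L.Characteristic] {a x : G} (ha : a ∈ L)
    (e : orderOf a = orderOf x) : x ∈ L := by
  obtain ⟨φ, rfl⟩ := hG.cj e
  exact (characteristic_iff_map_le.1 hL φ) ⟨a, ha, rfl⟩

theorem split {G : Type u} [Group G] [Finite G] (hG : Hm G) {L : Subgroup G}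
    [L.Characteristic] (hL : IsQuasisimple L) : ∃ H : Subgroup G, H.Characteristic ∧
      H ⊓ L = ⊥ ∧ H ⊔ L = ⊤ ∧ (Nat.card H).Coprime (Nat.card L) ∧ Odd (Nat.card H) := by
  have := Fact.mk Nat.prime_two
  obtain ⟨hA, hZ, h4⟩ := quasi_props (hG.char L) hL
  have hc : ∀ z (hz : z ∈ L ⊓ 𝐂(L)), (⟨z, hz.1⟩ : L) ∈ center L := fun z hz =>
    mem_center_iff.2 fun y => Subtype.ext (U4.mem_cent.1 hz.2 y y.2)
  have hZ' : ∀ z ∈ L ⊓ 𝐂(L), z * z = 1 := fun z hz => congrArg Subtype.val (hZ _ (hc z hz))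
  obtain ⟨t, ht⟩ := exists_prime_orderOf_dvd_card' (G := L) 2 (by
    by_contra e
    exact isQuasisimple_not_isSolvable hL (GW.solvable_of_odd
      (Nat.odd_iff.2 (Nat.two_dvd_ne_zero.1 e))))
  have k1 : ∀ x, x * x ∈ L ⊓ 𝐂(L) → x ∈ L := fun x hx => by
    by_cases e : x * x = 1
    · by_cases e1 : x = 1
      · rw [e1]; exact one_mem _
      · exact hG.mem_char t.2 (by rw [orderOf_coe, ht, orderOf_eq_prime (by rwa [sq]) e1])
    · obtain ⟨s, hs⟩ := h4 fun e' => e (congrArg Subtype.val (mem_bot.1 (e'.le (hc _ hx))))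
      refine hG.mem_char s.2 ?_
      rw [orderOf_coe, hs, orderOf_eq_prime_pow (p := 2) (n := 1) (by rwa [pow_one, sq])
        (by rw [pow_succ, pow_mul, pow_one, sq, sq, hZ' _ hx])]
      rfl
  have k2 : ∀ (k : ℕ) (x : G), x ^ 2 ^ k = 1 → x * x ∈ 𝐂(L) → x ∈ L := fun k => by
    induction k with
    | zero => intro x hx _; rw [show x = 1 by simpa using hx]; exact one_mem _
    | succ k ih =>
      exact fun x hx h => k1 x ⟨ih _ (by rwa [← sq, ← pow_mul, ← pow_succ']) (mul_mem h h), h⟩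
  let N := L.subgroupOf 𝐂(L)
  have hN : IsPGroup 2 N := fun z => ⟨1, Subtype.ext (Subtype.ext (by
    simpa [sq] using hZ' z.1 ⟨z.2, z.1.2⟩))⟩
  have ho : Odd N.index := by
    rw [← Nat.not_even_iff_odd, even_iff_two_dvd]
    intro e
    obtain ⟨x, hx⟩ := exists_prime_orderOf_dvd_card' (G := 𝐂(L) ⧸ N) 2 e
    obtain ⟨g, rfl⟩ := QuotientGroup.mk_surjective x
    have h1 := pow_orderOf_eq_one (g : 𝐂(L) ⧸ N)
    rw [hx, sq, ← QuotientGroup.mk_mul, QuotientGroup.eq_one_iff] at h1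
    rw [(QuotientGroup.eq_one_iff g).2 (k1 g ⟨h1, (g * g).2⟩), orderOf_one] at hx
    omega
  obtain ⟨H0, hH⟩ := exists_right_complement'_of_coprime (N := N) (by
    obtain ⟨k, hk⟩ := hN.exists_card_eq
    rw [hk]
    exact (Nat.coprime_two_left.2 ho).pow_left k)
  have hcard : Odd (Nat.card (H0.map 𝐂(L).subtype)) := by
    rwa [card_map_of_injective (subtype_injective _), ← hH.symm.index_eq_card]
  have hodd : ∀ x ∈ H0.map 𝐂(L).subtype, Odd (orderOf x) := fun x hx =>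
    hcard.of_dvd_nat (orderOf_dvd_natCard _ hx)
  have hdec : ∀ x ∈ 𝐂(L), ∃ z ∈ L ⊓ 𝐂(L), ∃ y ∈ H0.map 𝐂(L).subtype, z * y = x := fun x hx => by
    obtain ⟨⟨z, y⟩, e⟩ := hH.2 ⟨x, hx⟩
    exact ⟨z, ⟨z.2, z.1.2⟩, y, ⟨y, y.2, rfl⟩, congrArg Subtype.val e⟩
  have hmem : ∀ x ∈ 𝐂(L), Odd (orderOf x) → x ∈ H0.map 𝐂(L).subtype := fun x hx h => by
    obtain ⟨z, hz, y, hy, rfl⟩ := hdec x hx
    have h1 : Commute z y := U4.mem_cent.1 (map_subtype_le _ hy) z hz.1
    have h2 : (z * y) ^ (orderOf (z * y) * orderOf y) = 1 := by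
      rw [pow_mul, pow_orderOf_eq_one, one_pow]
    obtain ⟨k, hk⟩ := h.mul (hodd y hy)
    rw [h1.mul_pow, mul_comm _ (orderOf y), pow_mul y, pow_orderOf_eq_one, one_pow, mul_one,
      mul_comm (orderOf y), hk, pow_succ, pow_mul, sq, hZ' z hz, one_pow, one_mul] at h2
    rwa [h2, one_mul]
  have hinf : H0.map 𝐂(L).subtype ⊓ L = ⊥ := U4.eq_bot_of_forall fun x hx =>
    GW.eq_one_of_odd_of_mul_self (hodd x hx.1) (hZ' x ⟨hx.2, map_subtype_le _ hx.1⟩)
  have hC : 𝐂(L) ≤ H0.map 𝐂(L).subtype ⊔ L := fun x hx => by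
    obtain ⟨z, hz, y, hy, rfl⟩ := hdec x hx
    exact mul_mem (mem_sup_right hz.1) (mem_sup_left hy)
  refine ⟨H0.map 𝐂(L).subtype, characteristic_iff_map_le.2 ?_, hinf, eq_top_iff.2 fun g _ => ?_,
    ?_, hcard⟩
  · rintro φ _ ⟨x, hx, rfl⟩
    exact hmem _ (characteristic_iff_map_le.1 inferInstance φ ⟨x, map_subtype_le _ hx, rfl⟩)
      ((MulEquiv.orderOf_eq φ x).symm ▸ hodd x hx)
  · obtain ⟨l, hl⟩ := hA (MulAut.conjNormal g)
    have h1 : l * g * (l * g) ∈ 𝐂(L) := U4.mem_cent.2 fun y hy => by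
      have := congrArg Subtype.val (hl ⟨y, hy⟩)
      simp only [coe_mul, MulAut.conjNormal_apply, InvMemClass.coe_inv] at this
      conv_lhs => rw [← this]
      group
    obtain ⟨u, -, v, ⟨i, hi⟩, e, hc, ⟨k, hk⟩, hv⟩ := exists_p_part Nat.prime_two (l * g)
    have h2 : v * v ∈ 𝐂(L) := by
      rw [← hi, ← (Commute.refl _).mul_zpow]; exact zpow_mem h1 i
    have h3 : v ∈ 𝐂(L) := by
      obtain ⟨j, hj⟩ := Nat.coprime_two_right.1 hv
      have := pow_orderOf_eq_one v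
      rw [hj, pow_succ, pow_mul, sq] at this
      rw [eq_inv_of_mul_eq_one_right this]
      exact inv_mem (pow_mem h2 j)
    have h5 : u ∈ L := k2 k u (hk ▸ pow_orderOf_eq_one u) (by
      rw [e, show u * v * (u * v) = u * u * (v * v) by
        rw [mul_assoc, ← mul_assoc v, ← hc.eq]; group] at h1
      exact (mul_mem_cancel_right h2).1 h1)
    have h6 : l * g ∈ H0.map 𝐂(L).subtype ⊔ L := e ▸ mul_mem (mem_sup_right h5) (hC h3)
    exact (mul_mem_cancel_left (mem_sup_right l.2)).1 h6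
  · refine Nat.coprime_of_dvd fun r hr h1 h2 => ?_
    have := Fact.mk hr
    obtain ⟨a, ha⟩ := exists_prime_orderOf_dvd_card' r h1
    obtain ⟨b, hb⟩ := exists_prime_orderOf_dvd_card' r h2
    have h3 := U4.eq_one_of_mem_inf hinf a.2
      (hG.mem_char b.2 (by rw [orderOf_coe, orderOf_coe, ha, hb]))
    rw [← orderOf_coe, h3, orderOf_one] at ha
    exact hr.one_lt.ne ha

end CfsgLib.Hom
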