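import Cfsg.Agent.Lib.Hom.TwoB
import Cfsg.Agent.Lib.HI.End

/-!
# Sylow `2`-subgroups of simple homogeneous groups
-/

set_option autoImplicit false

namespace CfsgLib.Hom

open Subgroup Cfsg CfsgLib.FT CfsgLib.FT.BGN
open scoped commutatorElement

universe u

variable {G : Type u} [Group G] [Finite G] {S E : Subgroup G} {ρ : G}

/-- The `Z*`-theorem when the involutions of a Sylow `2`-subgroup are central in it. -/
theorem zstar_mem {X : Subgroup G} (hS : IsSylowIn 2 S X) (hc : ∀ a ∈ S, a ^ 2 = 1 → S ≤ 𝐂[a])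
    {y : G} (hy : y ∈ S) (h2 : orderOf y = 2) (h : ∀ n ∈ X, n ∈ 𝐍(S) → n * y * n⁻¹ = y) {g : G}
    (hg : g ∈ X) : g * y * g⁻¹ * y⁻¹ ∈ GW.Od X := by
  have := Fact.mk Nat.prime_two
  have h3 : y ^ 2 = 1 := h2 ▸ pow_orderOf_eq_one y
  have hi : IsIsolated (⟨y, hS.le hy⟩ : X) := fun k hk => by
    have hk' : y * (k * y * (k : G)⁻¹) = (k * y * (k : G)⁻¹) * y := congrArg Subtype.val hk
    obtain ⟨c, hc1, h4⟩ := (hS.mono (le_inf hS.le (hc y hy h3)) inf_le_left).exists_conj_le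
      (isPGroup_zpowers Nat.prime_two (g := k * y * (k : G)⁻¹) (j := 1)
        (by rw [pow_one, conj_pow, h3]; simp))
      (zpowers_le.2 (mem_inf.2 ⟨mul_mem (mul_mem k.2 (hS.le hy)) (inv_mem k.2), U4.mem_cent1'.2 hk'⟩))
    have h5 : c * k * y * (c * k)⁻¹ ∈ S := by
      convert h4 (conj_mem_map_conj (mem_zpowers _)) using 1; group
    have h6 := mul_mem hc1.1 k.2
    obtain ⟨x, hx, h7⟩ := (hS.mono (le_inf hS.le (hc _ h5 (by rw [conj_pow, h3]; simp)))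
      inf_le_left).exists_conj_eq ((hS.map_conj_of_mem_normalizer (le_normalizer h6)).mono
        (le_inf (hS.map_conj_of_mem_normalizer (le_normalizer h6)).le
          (by rw [U4.cent1_conj]; exact map_mono (hc y hy h3))) inf_le_left)
    have h8 := h (x * (c * k)) (mul_mem hx.1 h6) (mem_normalizer_of_conj_mem fun s hs => by
      rw [← h7]
      convert conj_mem_map_conj (g := x) (conj_mem_map_conj (g := c * k) hs) using 1; group)
    rw [show x * (c * k) * y * (x * (c * k))⁻¹ = x * (c * k * y * (c * k)⁻¹) * x⁻¹ by group,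
      U4.conj_eq_of_mem_cent1 hx.2] at h8
    refine Subtype.ext ?_
    calc (k : G) * y * (k : G)⁻¹ = c⁻¹ * (c * k * y * (c * k)⁻¹) * c := by group
      _ = y := by rw [h8, mul_assoc, ← U4.mem_cent1.1 hc1.2, inv_mul_cancel_left]
  have := Blk.glauberman_zstar X ⟨y, hS.le hy⟩ ((orderOf_mk y _).trans h2) hi ⟨g, hg⟩
  rw [GW.Od, piCoreOf_compl_eq]
  exact ⟨_, this, rfl⟩

theorem Rot.exists_sq (R : Rot S E ρ) (h : ¬ S ≤ E) {z : G} (hz : z ∈ E) (z1 : z ≠ 1) :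
    ∃ d ∈ S, d * d = z := by
  obtain ⟨x, hx, hxE⟩ := SetLike.not_le_iff_exists.1 h
  obtain ⟨y, hy, y1, y2⟩ := Suz.exists_order_four R.two hx fun e => hxE (R.om x hx ((sq x).trans e))
  have h1 := R.om _ (mul_mem hy hy) ((sq _).trans y2)
  have h2 := conj_mem_of_mem_normalizer R.nE h1
  have h3 := conj_mem_of_mem_normalizer R.nT hy
  rcases R.ea.cases R.card h1 h2 y1 (U4.conj_ne_one_iff.2 y1) (fun e => y1 (R.fpf _ h1 e.symm)) hz
    with e | e | e | e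
  · exact absurd e z1
  · exact ⟨y, hy, e.symm⟩
  · exact ⟨_, h3, by rw [e, _root_.conj_mul]⟩
  · refine ⟨_, conj_mem_of_mem_normalizer R.nT h3, ?_⟩
    rw [_root_.conj_mul, _root_.conj_mul,
      ← inv_eq_of_mul_eq_one_right (rot3 R.ea R.card R.nE R.fpf h1), ← e,
      inv_eq_of_mul_eq_one_right (R.ea.mul_self hz)]

theorem Rot.cent_odd (R : Rot S E ρ) (h : ¬ S ≤ E) (hG : OW G) {z z' : G} (hz : z ∈ E)
    (z1 : z ≠ 1) (hz' : z' ∈ E) {X : Subgroup G} (hX : X ≤ 𝐂[z]) (ho : Odd (Nat.card X))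
    (hn : S ≤ 𝐍(X)) : z' ∈ 𝐂(X) := by
  have := Fact.mk Nat.prime_two
  refine hG.cent_of_ea ho R.two hn (R.le hz') fun r hr hr2 V hV hV' hSV => ?_
  have hzV : z ∈ 𝐂(V) := U4.mem_cent.2 fun v hv => U4.mem_cent1.1 (hX (hV hv))
  by_contra hc
  have h1 := (hG.pm hr hr2 hV' (hSV (R.le hz'))
    (by rw [R.ea.mul_self hz']; exact one_mem _)).resolve_left hc
  obtain ⟨d, hd, hdV, e⟩ : ∃ d ∈ S, d ∈ 𝐂(V) ∧ d * d = z := by
    obtain ⟨d, hd, e⟩ := R.exists_sq h hz z1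
    rcases hG.pm hr hr2 hV' (hSV hd) (e ▸ hzV) with h2 | h2
    · exact ⟨d, hd, h2, e⟩
    · refine ⟨d * z', mul_mem hd (R.le hz'), mem_cent_of_conj fun v hv => ?_, ?_⟩
      · rw [show d * z' * v * (d * z')⁻¹ = d * (z' * v * z'⁻¹) * d⁻¹ by group, h1 v hv,
          h2 _ (inv_mem hv), inv_inv]
      · rw [← sq, Commute.mul_pow (U4.mem_cent.1 (R.cent hd) z' hz').symm, R.ea.pow z' hz',
          mul_one, sq, e]
  have o2 := GW.inv_of_mul_self (R.ea.mul_self hz) z1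
  have := R.two.isNilpotent
  have := normal_subgroupOf_of_le_normalizer (fun s hs => norm_cent (hSV hs))
  have := normal_subgroupOf_of_le_normalizer
    ((R.cent.trans (centralizer_le (zpowers_le.2 hz))).trans (U4.cent_le_norm _))
  obtain ⟨x, hx, hx', h2⟩ := PGrp.exists_central_mod ((zpowers z).subgroupOf S)
    ((𝐂(V)).subgroupOf S) fun hle => by
      rcases (GW.mem_zpowers_inv o2).1 (hle (show (⟨d, hd⟩ : S) ∈ _ from hdV)) with e' | e'
      · exact z1 (by rw [← e, show d = 1 from e', one_mul])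
      · exact z1 (by rw [← e, show d = z from e', R.ea.mul_self hz])
  have h3 := R.r1 hz x.2 fun y hy => ((GW.mem_zpowers_inv o2).1 (h2 ⟨y, hy⟩)).imp
    (fun e => mul_inv_eq_one.1 e) fun e =>
      (mul_inv_eq_iff_eq_mul.1 e).trans (U4.mem_cent.1 (R.cent hy) z hz)
  rcases R.ea.cases R.card hz hz' z1 (fun e => hc (e ▸ one_mem _)) (fun e => hc (e ▸ hzV)) h3
    with e | e | e | e
  · exact hx' (mem_subgroupOf.2 (e ▸ one_mem _))
  · exact hx' (mem_subgroupOf.2 (e ▸ mem_zpowers _))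
  · exact hc (e ▸ hx)
  · exact hc ((mul_mem_cancel_left hzV).1 (e ▸ hx))

theorem Rot.cent_of_odd (R : Rot S E ρ) (h : ¬ S ≤ E) (hN : NA S)
    (hS : IsSylowIn 2 S ⊤) {w : G} (hw : w ∈ 𝐍(S)) (hwE : w ∈ 𝐂(E)) (ho : Odd (orderOf w)) :
    w ∈ 𝐂(S) := by
  have := Fact.mk Nat.prime_two
  obtain ⟨n, hn⟩ := IsPGroup.iff_card.1 R.two
  refine mem_centralizer_of_commutator_mem_frattini hw
    (hn ▸ (Nat.coprime_two_right.2 ho).pow_right n) fun x hx => ?_
  have h1 := conj_mem_of_mem_normalizer hw hx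
  refine ⟨⟨_, mul_mem h1 (inv_mem hx)⟩, PGrp.mem_frattini_iff.2 fun M hM => ?_, rfl⟩
  obtain ⟨l, hl, h0⟩ := exists_fn_of_coatom R.two hM
  obtain ⟨z, hz, z1⟩ := exists_not_mem_of_card (W := ⊥) (E := E) (by rw [card_bot, R.card]; omega)
  have hzE := zpowers_le.2 hz
  have h2 : ∀ e ∈ zpowers z, l e = 0 := fun e he => by
    by_cases e1 : e = 1
    · rw [e1, hl.one]
    · obtain ⟨d, hd, rfl⟩ := R.exists_sq h (hzE he) e1
      rw [hl d hd d hd, CharTwo.add_self_eq_zero]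
  have hwz := (centralizer_le hzE) (inv_mem hwE)
  obtain ⟨k, hk, ⟨i, hi⟩, e⟩ := hN.cen_p Nat.prime_two (hzE.trans R.le)
    (hzE.trans (le_centralizer_iff.1 R.cent)) (R.ea.mono hzE).pow
    (f := fun x => z ^ (l x).val) (fun _ _ => pow_mem (mem_zpowers z) _)
    (fun x hx y hy => by rw [hl x hx y hy, pow_val_add (R.ea.pow z hz)])
    (fun e he => by rw [h2 e he]; simp) (inv_mem hw) (U4.cent_le_norm _ hwz)
  rw [← h0, hl _ h1 _ (inv_mem hx), hl.inv hx, ZMod.neg_eq_self_mod_two, add_comm]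
  exact R.fn_eq_zero hz z1 (mem_of_ppow Nat.prime_two hS (mem_top k) hk hi)
    (l := fun x => l x + l (w * x * w⁻¹)) (fun y _ => by
      rw [e y ‹_›, conj_eq_of_cent hwz (pow_mem (mem_zpowers z) _), inv_inv,
        inv_eq_of_mul_eq_one_right (R.ea.mul_self (pow_mem hz _)),
        pow_val_add (R.ea.pow z hz)]) hx

theorem se_of {M : Subgroup G} (hM : M ≠ ⊤) {a : G} (ha : SE.IsInv a) (haM : a ∈ M)
    (h : ∀ u g : G, SE.IsInv u → u ∈ M → g * u * g⁻¹ ∈ M → g ∈ M) : IsStronglyEmbedded M :=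
  ⟨hM, Suz.even_card_of_invol haM ha.2 ha.1, fun g hg => GW.odd_card_of_forall fun u hu hi =>
    hg (by simpa using inv_mem (h u g⁻¹ ⟨GW.mul_self_of_inv hi, GW.ne_one_of_inv hi⟩ hu.1
      (by simpa using mem_map_conj_iff.1 hu.2)))⟩

theorem c2_of_simple {G : Type u} [Group G] [Finite G] [IsSimpleGroup G]
    (hna : ¬ IsMulCommutative G) (hG : Hm G) : SW.C2 G := by
  have := Fact.mk Nat.prime_two
  have hp := Nat.prime_two
  obtain ⟨z, hz2⟩ := exists_prime_orderOf_dvd_card' 2 (WApp.even_of_simple hna).two_dvd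
  obtain ⟨u, u2, u1, hu, hc⟩ := BSW.exists_other_involution hna hz2
  have h4 : GW.Four z u := ⟨hz2, GW.inv_of_mul_self u2 u1, hc.symm, hu.symm⟩
  obtain ⟨E, hVE, hE, hm⟩ := exists_mx (p := 2) (A := GW.V z u)
    ⟨fun v hv => (sq v).trans (h4.mul_self_of_mem hv),
      fun a ha b hb => U4.mem_cent.1 (h4.V_le_cent hb) a ha⟩
  have hz := hVE (GW.t_mem_V z u)
  by_cases h : ¬ PV 2 E
  · exact c2_of_not_pv hG hE hm h
  rw [not_not] at h
  have c1 := c1_of_pv hp hE hm h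
  have hN := hG.na E
  obtain ⟨S, hES, hS⟩ := IsSylowIn.exists_ge hE.isPGroup le_top
  have hc : ∀ a ∈ S, a ^ 2 = 1 → S ≤ 𝐂[a] := fun a => c1.le_cent hp hS.isPGroup
  have hSE : S ≤ 𝐂(E) := fun s hs => U4.mem_cent.2 fun e he =>
    U4.mem_cent1'.1 (hc e (hES he) (hE.pow e he) hs)
  have om : ∀ x ∈ S, x ^ 2 = 1 → x ∈ E := fun x hx => hm x (hSE hx)
  have hNE : 𝐍(S) ≤ 𝐍(E) := fun n hn => mem_normalizer_of_conj_mem fun e he =>
    om _ (conj_mem_of_mem_normalizer hn (hES he)) (by rw [conj_pow, hE.pow e he]; simp)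
  have fix : ∀ n ∈ 𝐍(E), ∀ a ∈ E, a ≠ 1 → n * a * n⁻¹ = a → ∀ b ∈ E, n * b * n⁻¹ = b :=
    fun n hn a ha a1 e b hb => by
      simpa using scalar_of_eig hp hE hN h hn ha a1 (k := 1) (by rw [e, pow_one]) b hb
  obtain ⟨ρ, hρ, hρz⟩ : ∃ ρ ∈ 𝐍(S), ρ * z * ρ⁻¹ ≠ z := by
    by_contra hn
    push Not at hn
    have h1 := (normal_of_le_normalizer_top (GW.le_norm_Od (⊤ : Subgroup G))).eq_bot_or_eq_top
      |>.resolve_right fun e => GW.notMem_Od hz2 (e ▸ mem_top z)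
    refine BSW.not_inZStar_of_simple hna hz2 fun g => ?_
    have := zstar_mem hS hc (hES hz) hz2 (fun n _ => hn n) (mem_top g)
    rw [h1, mem_bot] at this
    exact this ▸ one_mem _
  have hE4 : Nat.card E = 4 := by
    obtain ⟨n, hn⟩ := IsPGroup.iff_card.1 hE.isPGroup
    have h1 : 2 ^ 2 ≤ 2 ^ n := hn ▸ h4.card_V.ge.trans (card_le_of_le hVE)
    have h2 : ¬ 2 ^ 3 ≤ 2 ^ n := fun h2 => by
      obtain ⟨k, hk⟩ := scalar_of_big hp hE hN h (Or.inr (hn ▸ h2)) (hNE hρ)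
      rcases (GW.mem_zpowers_inv hz2).1 (hk z hz ▸ pow_mem (mem_zpowers z) k) with e | e
      exacts [U4.conj_ne_one_iff.2 h4.t1 e, hρz e]
    rw [Nat.pow_le_pow_iff_right one_lt_two] at h1 h2
    rw [hn, show n = 2 by omega]
    rfl
  by_cases hSE' : S ≤ E
  · exact c2_of_cent hS hE hE4 hES (inf_le_left.trans hSE')
  exfalso
  have fpf : ∀ e ∈ E, ρ * e * ρ⁻¹ = e → e = 1 := fun e he h => by_contra fun e1 =>
    hρz (fix ρ (hNE hρ) e he e1 h z hz)
  have R : Rot S E ρ := ⟨hS.isPGroup, hE, hE4, hES, hSE, om, zc hp hG hE hm (hS.mono hSE le_top)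
    fun a ha a1 => ⟨ρ, hNE hρ, fun h => by
      rcases (GW.mem_zpowers_inv (GW.inv_of_mul_self (hE.mul_self ha) a1)).1 h with e | e
      exacts [U4.conj_ne_one_iff.2 a1 e, a1 (fpf a ha e)]⟩, hρ, hNE hρ, fpf⟩
  have cent : ∀ a ∈ E, a ≠ 1 → 𝐂[a] ≤ 𝐂(E) := fun a ha a1 g hg => mem_cent_of_conj fun b hb => by
    by_cases b1 : b = 1
    · simp [b1]
    have hSa := hc a (hES ha) (hE.pow a ha)
    have h1 := zstar_mem (hS.mono hSa le_top) hc (hES hb) (GW.inv_of_mul_self (hE.mul_self hb) b1)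
      (fun n hn hn' => fix n (hNE hn') a ha a1 (U4.conj_eq_of_mem_cent1 hn) b hb) hg
    have h2 := U4.mem_cent.1 (R.cent_odd hSE' hG.ow ha a1 hb (GW.Od_le _) (GW.odd_Od _)
      (hSa.trans (GW.le_norm_Od _))) _ h1
    refine mul_inv_eq_one.1 (GW.eq_one_of_odd_of_mul_self (GW.odd_of_mem_Od h1) ?_)
    rw [← sq, ← mul_one (_ ^ 2), ← hE.pow b hb, ← Commute.mul_pow h2, inv_mul_cancel_right,
      conj_pow, hE.pow b hb]
    simp
  have inv : ∀ v, SE.IsInv v → v ∈ 𝐍(E) → v ∈ E := fun v hv hn =>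
    hm v (h v hn 1 (by rw [pow_one, sq, hv.1])) ((sq v).trans hv.1)
  have hM : IsStronglyEmbedded 𝐍(E) := se_of (fun e => by
      rcases (normalizer_eq_top_iff.1 e).eq_bot_or_eq_top with e | e
      · exact h4.t1 (mem_bot.1 (e ▸ hz))
      · exact hna ⟨⟨fun a b => hE.comm a (e ▸ mem_top a) b (e ▸ mem_top b)⟩⟩)
    ⟨h4.tt, h4.t1⟩ (le_normalizer hz) fun v g hv h1 h2 => mem_normalizer_of_conj_mem fun e he =>
      hm _ (cent _ (inv _ (hv.conj g) h2) (hv.conj g).2 (by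
        rw [U4.cent1_conj]
        exact conj_mem_map_conj (U4.cent_le_cent1 (inv v hv h1) (hE.le_cent he))))
        (by rw [conj_pow, hE.pow e he]; simp)
  obtain ⟨Q, t, R', h2⟩ := SEB.bender hM (SE.normalCore_eq_bot_of_simple hM.1)
    (SEG.rk2_of_simple hna ⟨h4.tt, h4.t1⟩)
  obtain ⟨s, r, hs⟩ := R'.exists_dist
  obtain ⟨hQ, hT⟩ := R'.suzuki h2 hs
  obtain rfl := hS.eq_of_le hQ (fun x hx => by
    obtain ⟨j, hj⟩ := exists_ppow hS.isPGroup hx
    exact R'.mem_Q_of_two_pow (hNE (le_normalizer hx)) hj) le_top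
  rcases hT with h1 | ⟨-, -, hr⟩ | ⟨-, -, -, w, hw, h3, x, hx, h5⟩
  · exact hSE' fun x hx => om x hx ((sq x).trans (h1 x hx))
  · refine absurd (R'.odd_of_order_four h2 hs hr (n := 2) ?_) (by decide)
    rw [le_antisymm (b := E)
      (fun x hx => ((R'.mem_Q0 h2).1 hx).elim fun h1 h2 => om x h1 ((sq x).trans h2))
      fun x hx => (R'.mem_Q0 h2).2 ⟨hES hx, hE.mul_self hx⟩, hE4]
    rfl
  · exact h5 (U4.mem_cent.1 (R.cent_of_odd hSE' (hG.na _) hS (R'.le_normalizer (Suz.Dg_le hw))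
      (U4.mem_cent.2 fun e he => h3 e (hES he) (hE.mul_self he))
      (R'.odd.of_dvd_nat (orderOf_dvd_natCard _ hw))) x hx)

end CfsgLib.Hom
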